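import Mathlib
import Cfsg.Agent.S0731
import Cfsg.Agent.S3282
import Cfsg.Agent.Lib.Basic.SmallSimple
import Cfsg.Agent.Lib.Coprime.Coset
import Cfsg.Agent.Lib.Blocks.MixP.CaseII

/-!
# The conclusion of the abstract Brauer–Suzuki–Wall theorem in a simple group

If `G` is simple, non-abelian and has subgroups `Q`, `D` as in the conclusion of the abstract
Brauer–Suzuki–Wall theorem, then `G` acts on the cosets of `N(Q)` as a Zassenhaus group with abelian
root groups; hence `G` is isomorphic to `PSL(2, K)`.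
-/

set_option autoImplicit false
set_option linter.unusedVariables false
set_option linter.style.haveILetI false
set_option linter.unusedSectionVars false

namespace Cfsg.Agent.Lib.SelfCen.BSWSimple

open Subgroup MulAction

variable {G : Type*} [Group G] [Finite G]

/-- The data in the conclusion of the abstract Brauer–Suzuki–Wall theorem. -/
structure Data (Q D : Subgroup G) : Prop where
  hcard : 2 * Nat.card G = Nat.card Q * (Nat.card Q + 1) * (Nat.card Q - 1)
  hC : ∀ x ∈ Q, x ≠ 1 → centralizer ({x} : Set G) = Q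
  hDab : IsMulCommutative D
  hD : 2 * Nat.card D + 1 = Nat.card Q
  hQD : Q ⊓ D = ⊥
  hN : normalizer (Q : Set G) = Q ⊔ D
  hX : ∀ X : Subgroup G, X ≤ D → X ≠ ⊥ →
    normalizer (X : Set G) = normalizer (D : Set G) ∧
    ∃ u : G, orderOf u = 2 ∧ u ∉ D ∧ (∀ d ∈ D, u * d * u⁻¹ = d⁻¹) ∧
      normalizer (D : Set G) = D ⊔ zpowers u

namespace Data

variable {Q D : Subgroup G} (H : Data Q D)
include H

theorem le_norm : D ≤ normalizer (Q : Set G) := by
  rw [H.hN]; exact le_sup_right

theorem comm_Q {x y : G} (hx : x ∈ Q) (hy : y ∈ Q) : x * y = y * x := by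
  by_cases h : x = 1
  · simp [h]
  · have : y ∈ centralizer ({x} : Set G) := by rw [H.hC x hx h]; exact hy
    rw [mem_centralizer_singleton_iff] at this
    exact this.symm

theorem card_N : Nat.card (normalizer (Q : Set G)) = Nat.card Q * Nat.card D := by
  have h1 := Cfsg.Agent.Lib.Blocks.MixP.card_sup_of_le_normalizer H.le_norm
  rw [H.hQD, ← H.hN] at h1
  simpa using h1

theorem card_Q_pos : 0 < Nat.card D ∧ Nat.card Q = 2 * Nat.card D + 1 :=
  ⟨Nat.card_pos, H.hD.symm⟩

theorem card_G : Nat.card G = Nat.card Q * (Nat.card Q + 1) * Nat.card D := by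
  have h1 := H.hcard
  have h2 := H.hD
  have h3 : Nat.card Q - 1 = 2 * Nat.card D := by omega
  rw [h3] at h1
  nlinarith

theorem index_N : (normalizer (Q : Set G)).index = Nat.card Q + 1 := by
  have h1 := Subgroup.card_mul_index (normalizer (Q : Set G))
  rw [H.card_N, H.card_G] at h1
  have hpos : 0 < Nat.card Q * Nat.card D := Nat.mul_pos Nat.card_pos Nat.card_pos
  apply Nat.eq_of_mul_eq_mul_left hpos
  rw [h1]; ring

theorem coprime_QD : Nat.Coprime (Nat.card Q) (Nat.card D) := by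
  rw [← H.hD]
  simp [Nat.coprime_mul_left_add_left]

/-- Powers of elements of `b` modulo `Q`. -/
theorem pow_mem_mul {a b : G} (ha : a ∈ Q) (hb : b ∈ D) (n : ℕ) :
    ∃ c ∈ Q, (a * b) ^ n = c * b ^ n := by
  induction n with
  | zero => exact ⟨1, Q.one_mem, by simp⟩
  | succ n ih =>
    obtain ⟨c, hc, e⟩ := ih
    have hbn : b ^ n ∈ D := D.pow_mem hb n
    have h1 := (Subgroup.mem_normalizer_iff.mp (H.le_norm hbn)) a
    refine ⟨c * (b ^ n * a * (b ^ n)⁻¹), Q.mul_mem hc (h1.mp ha), ?_⟩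
    rw [pow_succ, e, pow_succ]
    group

/-- An element of `N(Q)` whose `|Q|`-th power is trivial lies in `Q`. -/
theorem mem_Q_of_pow {w : G} (hw : w ∈ normalizer (Q : Set G)) (h1 : w ^ Nat.card Q = 1) :
    w ∈ Q := by
  rw [H.hN, Cfsg.Agent.Lib.Coprime.Coset.mem_sup_iff_of_le_normalizer H.le_norm] at hw
  obtain ⟨a, ha, b, hb, rfl⟩ := hw
  obtain ⟨c, hc, e⟩ := H.pow_mem_mul ha hb (Nat.card Q)
  rw [e] at h1
  have hb1 : b ^ Nat.card Q ∈ Q ⊓ D := by
    refine ⟨?_, D.pow_mem hb _⟩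
    have : b ^ Nat.card Q = c⁻¹ := eq_inv_of_mul_eq_one_right h1
    rw [this]
    exact Q.inv_mem hc
  rw [H.hQD, mem_bot] at hb1
  have hb2 : b ^ Nat.card D = 1 := by
    have h0 := pow_card_eq_one' (x := (⟨b, hb⟩ : D))
    have h1 := congrArg Subtype.val h0
    simpa only [SubgroupClass.coe_pow, OneMemClass.coe_one] using h1
  have hb3 : b = 1 := by
    have := pow_gcd_eq_one.2 ⟨hb1, hb2⟩
    rw [H.coprime_QD.gcd_eq_one, pow_one] at this
    exact this
  rw [hb3, mul_one]
  exact ha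

end Data

/-- The set of conjugates of `Q`, as cosets of `N(Q)`. -/
abbrev Om (Q : Subgroup G) : Type _ := G ⧸ normalizer (Q : Set G)

/-- The base point. -/
def x0 (Q : Subgroup G) : Om Q := ((1 : G) : G ⧸ normalizer (Q : Set G))

namespace Data

variable {Q D : Subgroup G} (H : Data Q D)

theorem stabilizer_x0 : stabilizer G (x0 Q) = normalizer (Q : Set G) :=
  MulAction.stabilizer_quotient _

theorem smul_x0_of_mem {g : G} (hg : g ∈ normalizer (Q : Set G)) : g • x0 Q = x0 Q := by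
  rw [← stabilizer_x0] at hg
  exact hg

theorem mem_of_smul_x0 {g : G} (hg : g • x0 Q = x0 Q) : g ∈ normalizer (Q : Set G) := by
  rw [← stabilizer_x0]
  exact hg

theorem smul_x0_of_mem_Q {g : G} (hg : g ∈ Q) : g • x0 Q = x0 Q :=
  smul_x0_of_mem (Subgroup.le_normalizer hg)

include H

/-- `Q` acts freely on the remaining points. -/
theorem free {y : Om Q} (hy : y ≠ x0 Q) {u : G} (hu : u ∈ Q) (h : u • y = y) : u = 1 := by
  classical
  by_contra hu1
  obtain ⟨g, rfl⟩ := QuotientGroup.mk_surjective y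
  have hgN : g ∉ normalizer (Q : Set G) := by
    intro hg
    apply hy
    have : g • x0 Q = x0 Q := smul_x0_of_mem hg
    simpa [x0] using this
  set w : G := g⁻¹ * u * g with hw
  have hwN : w ∈ normalizer (Q : Set G) := by
    have h1 : (u * g : G) • ((1 : G) : G ⧸ normalizer (Q : Set G)) =
        g • ((1 : G) : G ⧸ normalizer (Q : Set G)) := by
      simpa using h
    apply mem_of_smul_x0
    change (g⁻¹ * u * g) • ((1 : G) : G ⧸ normalizer (Q : Set G)) = _
    rw [x0, mul_assoc, mul_smul, h1, inv_smul_smul]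
  have hwpow : w ^ Nat.card Q = 1 := by
    have h1 : u ^ Nat.card Q = 1 := by
      have h0 := pow_card_eq_one' (x := (⟨u, hu⟩ : Q))
      have h1 := congrArg Subtype.val h0
      simpa only [SubgroupClass.coe_pow, OneMemClass.coe_one] using h1
    have h2 : w ^ Nat.card Q = g⁻¹ * u ^ Nat.card Q * g := by
      rw [hw]
      have := conj_pow (a := g⁻¹) (b := u) (i := Nat.card Q)
      simpa using this
    rw [h2, h1]
    simp
  have hwQ : w ∈ Q := H.mem_Q_of_pow hwN hwpow
  have hw1 : w ≠ 1 := by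
    intro e
    apply hu1
    have : u = g * w * g⁻¹ := by rw [hw]; group
    rw [this, e]; simp
  apply hgN
  rw [Subgroup.mem_normalizer_iff]
  intro x
  have h1 := H.hC w hwQ hw1
  have h2 := H.hC u hu hu1
  have e : g * w * g⁻¹ = u := by rw [hw]; group
  constructor
  · intro hx
    have hx1 : x ∈ centralizer ({w} : Set G) := by rw [h1]; exact hx
    rw [mem_centralizer_singleton_iff] at hx1
    rw [← SetLike.mem_coe] at *
    change g * x * g⁻¹ ∈ Q
    rw [← h2, mem_centralizer_singleton_iff, ← e]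
    calc g * x * g⁻¹ * (g * w * g⁻¹) = g * (x * w) * g⁻¹ := by group
      _ = g * (w * x) * g⁻¹ := by rw [hx1]
      _ = g * w * g⁻¹ * (g * x * g⁻¹) := by group
  · intro hx
    have hx1 : g * x * g⁻¹ ∈ centralizer ({u} : Set G) := by rw [h2]; exact hx
    rw [mem_centralizer_singleton_iff, ← e] at hx1
    change x ∈ Q
    rw [← h1, mem_centralizer_singleton_iff]
    have : g * (x * w) * g⁻¹ = g * (w * x) * g⁻¹ := by
      calc g * (x * w) * g⁻¹ = g * x * g⁻¹ * (g * w * g⁻¹) := by group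
        _ = g * w * g⁻¹ * (g * x * g⁻¹) := hx1
        _ = g * (w * x) * g⁻¹ := by group
    simpa using this

theorem smul_ne_x0 {y : Om Q} (hy : y ≠ x0 Q) {u : G} (hu : u ∈ Q) : u • y ≠ x0 Q := by
  intro e
  apply hy
  have h1 : u⁻¹ • (u • y) = u⁻¹ • x0 Q := by rw [e]
  rw [inv_smul_smul, smul_x0_of_mem_Q (Q.inv_mem hu)] at h1
  exact h1

theorem card_Om : Nat.card (Om Q) = Nat.card Q + 1 := H.index_N

/-- `Q` is regular on the remaining points. -/
theorem existsUnique_smul {y z : Om Q} (hy : y ≠ x0 Q) (hz : z ≠ x0 Q) :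
    ∃! u : Q, (u : G) • y = z := by
  classical
  let f : Q → {w : Om Q // w ≠ x0 Q} := fun u => ⟨(u : G) • y, H.smul_ne_x0 hy u.2⟩
  have hinj : Function.Injective f := by
    intro a b hab
    have h1 : (a : G) • y = (b : G) • y := congrArg Subtype.val hab
    have h2 : ((b : G)⁻¹ * a) • y = y := by rw [mul_smul, h1, inv_smul_smul]
    have h3 := H.free hy (Q.mul_mem (Q.inv_mem b.2) a.2) h2
    apply Subtype.ext
    exact (inv_mul_eq_one.1 h3).symm
  have hcard : Nat.card {w : Om Q // w ≠ x0 Q} ≤ Nat.card Q := by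
    haveI : Fintype (Om Q) := Fintype.ofFinite _
    rw [Nat.card_eq_fintype_card (α := {w : Om Q // w ≠ x0 Q}), Fintype.card_subtype_compl,
      Fintype.card_subtype_eq, ← Nat.card_eq_fintype_card, H.card_Om]
    omega
  have hbij := hinj.bijective_of_nat_card_le hcard
  obtain ⟨u, hu⟩ := hbij.2 ⟨z, hz⟩
  refine ⟨u, congrArg Subtype.val hu, ?_⟩
  intro v hv
  apply hinj
  rw [hu]
  exact Subtype.ext hv

theorem two_trans : IsMultiplyPretransitive G (Om Q) 2 := by
  rw [is_two_pretransitive_iff]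
  intro a b c d hab hcd
  obtain ⟨g₁, h₁⟩ := MulAction.exists_smul_eq G a (x0 Q)
  obtain ⟨g₂, h₂⟩ := MulAction.exists_smul_eq G c (x0 Q)
  have hb : g₁ • b ≠ x0 Q := by
    intro e
    apply hab
    apply MulAction.injective g₁
    change g₁ • a = g₁ • b
    rw [h₁, e]
  have hd : g₂ • d ≠ x0 Q := by
    intro e
    apply hcd
    apply MulAction.injective g₂
    change g₂ • c = g₂ • d
    rw [h₂, e]
  obtain ⟨u, hu, -⟩ := H.existsUnique_smul hb hd
  refine ⟨g₂⁻¹ * u * g₁, ?_, ?_⟩
  · rw [mul_smul, mul_smul, h₁, smul_x0_of_mem_Q u.2, ← h₂, inv_smul_smul]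
  · rw [mul_smul, mul_smul, hu, inv_smul_smul]

/-- The second point: an involution `u₀` inverting `D` moves the base point. -/
theorem not_mem_N {u₀ : G} (h2 : orderOf u₀ = 2) (hu₀ : u₀ ∉ D) (hinv : ∀ d ∈ D, u₀ * d * u₀⁻¹ = d⁻¹) :
    u₀ ∉ normalizer (Q : Set G) := by
  classical
  intro hm
  have hDn : zpowers u₀ ≤ normalizer (D : Set G) := by
    rw [zpowers_le, Subgroup.mem_normalizer_iff]
    intro d
    constructor
    · intro hd
      change u₀ * d * u₀⁻¹ ∈ D
      rw [hinv d hd]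
      exact D.inv_mem hd
    · intro hd
      have h3 : u₀ * (u₀ * d * u₀⁻¹) * u₀⁻¹ = (u₀ * d * u₀⁻¹)⁻¹ := hinv _ hd
      have h4 : u₀ * u₀ = 1 := by
        have := pow_orderOf_eq_one u₀
        rw [h2, pow_two] at this
        exact this
      have h5 : u₀⁻¹ = u₀ := inv_eq_of_mul_eq_one_left h4
      have h6 : d = (u₀ * d * u₀⁻¹)⁻¹ := by
        rw [← h3, h5]
        calc d = (u₀ * u₀) * d * (u₀ * u₀) := by rw [h4]; simp
          _ = _ := by group
      rw [h6]
      exact D.inv_mem hd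
  set W : Subgroup G := D ⊔ zpowers u₀ with hW
  have hcW := Cfsg.Agent.Lib.Blocks.MixP.card_sup_of_le_normalizer hDn
  have hinf : D ⊓ zpowers u₀ = ⊥ := by
    rw [eq_bot_iff]
    intro x hxx
    obtain ⟨hx, hx'⟩ := Subgroup.mem_inf.1 hxx
    obtain ⟨k, rfl⟩ := mem_zpowers_iff.1 hx'
    rw [mem_bot]
    have hk : u₀ ^ k = 1 ∨ u₀ ^ k = u₀ := by
      have h4 : u₀ ^ (2 : ℤ) = 1 := by
        have := pow_orderOf_eq_one u₀
        rw [h2] at this
        exact_mod_cast this
      rcases Int.even_or_odd' k with ⟨c, rfl | rfl⟩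
      · left; rw [zpow_mul, h4, one_zpow]
      · right; rw [zpow_add, zpow_mul, h4, one_zpow]; simp
    rcases hk with hk | hk
    · exact hk
    · rw [hk] at hx
      exact absurd hx hu₀
  rw [hinf, Subgroup.card_bot, mul_one, Nat.card_zpowers, h2] at hcW
  have hWN : W ≤ normalizer (Q : Set G) := by
    rw [hW]
    apply sup_le H.le_norm
    rw [zpowers_le]
    exact hm
  have hQW : Q ⊓ W = ⊥ := by
    apply Subgroup.inf_eq_bot_of_coprime
    rw [hcW, ← H.hD]
    have : Nat.Coprime (2 * Nat.card D + 1) (2 * Nat.card D) := by simp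
    simpa [mul_comm] using this
  have hcW2 := Cfsg.Agent.Lib.Blocks.MixP.card_sup_of_le_normalizer hWN
  rw [hQW, Subgroup.card_bot, mul_one] at hcW2
  have hle : Q ⊔ W ≤ normalizer (Q : Set G) := sup_le Subgroup.le_normalizer hWN
  have hc3 := Subgroup.card_le_of_le hle
  rw [hcW2, H.card_N, hcW] at hc3
  have hpos : 0 < Nat.card Q := Nat.card_pos
  have hpos2 : 0 < Nat.card D := Nat.card_pos
  nlinarith

/-- The stabiliser of the second point in `N(Q)` is `D`. -/
theorem mem_D_of_fix {u₀ g : G} (hu₀ : u₀ ∉ normalizer (Q : Set G)) (h2 : orderOf u₀ = 2)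
    (hinv : ∀ d ∈ D, u₀ * d * u₀⁻¹ = d⁻¹) (hg : g ∈ normalizer (Q : Set G))
    (hfix : g • (u₀ • x0 Q) = u₀ • x0 Q) : g ∈ D := by
  have hy : u₀ • x0 Q ≠ x0 Q := fun e => hu₀ (mem_of_smul_x0 e)
  rw [H.hN, Cfsg.Agent.Lib.Coprime.Coset.mem_sup_iff_of_le_normalizer H.le_norm] at hg
  obtain ⟨a, ha, b, hb, rfl⟩ := hg
  have h4 : u₀ * u₀ = 1 := by
    have := pow_orderOf_eq_one u₀
    rw [h2, pow_two] at this
    exact this
  have h5 : u₀⁻¹ = u₀ := inv_eq_of_mul_eq_one_left h4
  have hbfix : b • (u₀ • x0 Q) = u₀ • x0 Q := by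
    have h6 : b * u₀ = u₀ * b⁻¹ := by
      have h7 := hinv (b⁻¹) (D.inv_mem hb)
      rw [inv_inv, h5] at h7
      calc b * u₀ = (u₀ * b⁻¹ * u₀) * u₀ := by rw [h7]
        _ = u₀ * b⁻¹ * (u₀ * u₀) := by group
        _ = u₀ * b⁻¹ := by rw [h4, mul_one]
    rw [← mul_smul, h6, mul_smul]
    rw [smul_x0_of_mem (H.le_norm (D.inv_mem hb))]
  have hafix : a • (u₀ • x0 Q) = u₀ • x0 Q := by
    rw [mul_smul, hbfix] at hfix
    exact hfix
  rw [H.free hy ha hafix, one_mul]
  exact hb

/-- Non-identity elements fix at most two points. -/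
theorem eq_one_of_fix_three (hD1 : D ≠ ⊥) {g : G} {a b c : Om Q} (hab : a ≠ b) (hbc : b ≠ c) (hac : a ≠ c)
    (ha : g • a = a) (hb : g • b = b) (hc : g • c = c) : g = 1 := by
  classical
  obtain ⟨-, u₀, h2, hu₀, hinv, hW⟩ := H.hX D le_rfl hD1
  have hu₀N := H.not_mem_N h2 hu₀ hinv
  have hy : u₀ • x0 Q ≠ x0 Q := fun e => hu₀N (mem_of_smul_x0 e)
  by_contra hg1
  have h2t := H.two_trans
  rw [is_two_pretransitive_iff] at h2t
  obtain ⟨h, h₁, h₂⟩ := h2t hab hy.symm
  set g' : G := h * g * h⁻¹ with hg'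
  have hg'1 : g' ≠ 1 := by
    intro e
    apply hg1
    have : g = h⁻¹ * g' * h := by rw [hg']; group
    rw [this, e]; simp
  have hfixh : ∀ {p : Om Q}, g • p = p → g' • (h • p) = h • p := by
    intro p hp
    rw [hg', mul_smul, mul_smul, inv_smul_smul, hp]
  have hx0 : g' • x0 Q = x0 Q := by
    have := hfixh ha
    rwa [h₁] at this
  have hy0 : g' • (u₀ • x0 Q) = u₀ • x0 Q := by
    have := hfixh hb
    rwa [h₂] at this
  have hc' : g' • (h • c) = h • c := hfixh hc
  have hc1 : h • c ≠ x0 Q := by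
    intro e
    apply hac
    apply MulAction.injective h
    change h • a = h • c
    rw [h₁, e]
  have hc2 : h • c ≠ u₀ • x0 Q := by
    intro e
    apply hbc
    apply MulAction.injective h
    change h • b = h • c
    rw [h₂, e]
  have hg'N : g' ∈ normalizer (Q : Set G) := mem_of_smul_x0 hx0
  have hg'D : g' ∈ D := H.mem_D_of_fix hu₀N h2 hinv hg'N hy0
  obtain ⟨m, hm, -⟩ := H.existsUnique_smul hy hc1
  have hmN : (m : G) ∈ normalizer (Q : Set G) := Subgroup.le_normalizer m.2
  set g'' : G := (m : G)⁻¹ * g' * (m : G) with hg''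
  have hg''N : g'' ∈ normalizer (Q : Set G) :=
    (normalizer (Q : Set G)).mul_mem ((normalizer (Q : Set G)).mul_mem
      ((normalizer (Q : Set G)).inv_mem hmN) hg'N) hmN
  have hg''D : g'' ∈ D := by
    apply H.mem_D_of_fix hu₀N h2 hinv hg''N
    rw [hg'', mul_smul, mul_smul, hm, hc', ← hm, inv_smul_smul]
  have hg''1 : g'' ≠ 1 := by
    intro e
    apply hg'1
    have : g' = (m : G) * g'' * (m : G)⁻¹ := by rw [hg'']; group
    rw [this, e]; simp
  -- normalizers
  have hz1 : normalizer ((zpowers g' : Subgroup G) : Set G) = normalizer (D : Set G) :=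
    (H.hX (zpowers g') ((zpowers_le).2 hg'D) (by simpa using hg'1)).1
  have hz2 : normalizer ((zpowers g'' : Subgroup G) : Set G) = normalizer (D : Set G) :=
    (H.hX (zpowers g'') ((zpowers_le).2 hg''D) (by simpa using hg''1)).1
  -- `m` normalizes `N(D)`
  have hconj : ∀ x : G, x ∈ normalizer (D : Set G) → (m : G)⁻¹ * x * (m : G) ∈ normalizer (D : Set G) := by
    intro x hx
    rw [← hz2, Subgroup.mem_normalizer_iff]
    rw [← hz1, Subgroup.mem_normalizer_iff] at hx
    intro w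
    have e1 := hx ((m : G) * w * (m : G)⁻¹)
    have e2 : ((m : G) * w * (m : G)⁻¹ ∈ (zpowers g' : Subgroup G)) ↔ w ∈ (zpowers g'' : Subgroup G) := by
      rw [mem_zpowers_iff, mem_zpowers_iff]
      refine exists_congr fun k => ?_
      have e3 : g'' ^ k = (m : G)⁻¹ * g' ^ k * (m : G) := by
        rw [hg'']
        have := conj_zpow (a := (m : G)⁻¹) (b := g') (i := k)
        simpa using this
      rw [e3]
      constructor
      · intro h; rw [h]; group
      · intro h; rw [← h]; group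
    have e4 : (x * ((m : G) * w * (m : G)⁻¹) * x⁻¹ ∈ (zpowers g' : Subgroup G)) ↔
        ((m : G)⁻¹ * x * (m : G)) * w * ((m : G)⁻¹ * x * (m : G))⁻¹ ∈ (zpowers g'' : Subgroup G) := by
      rw [mem_zpowers_iff, mem_zpowers_iff]
      refine exists_congr fun k => ?_
      have e3 : g'' ^ k = (m : G)⁻¹ * g' ^ k * (m : G) := by
        rw [hg'']
        have := conj_zpow (a := (m : G)⁻¹) (b := g') (i := k)
        simpa using this
      rw [e3]
      constructor
      · intro h; rw [h]; group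
      · intro h
        have : x * ((m : G) * w * (m : G)⁻¹) * x⁻¹ =
            (m : G) * (((m : G)⁻¹ * x * (m : G)) * w * ((m : G)⁻¹ * x * (m : G))⁻¹) * (m : G)⁻¹ := by group
        rw [this, ← h]; group
    change (w ∈ (zpowers g'' : Subgroup G)) ↔ ((m : G)⁻¹ * x * (m : G)) * w * ((m : G)⁻¹ * x * (m : G))⁻¹ ∈ (zpowers g'' : Subgroup G)
    rw [← e2, ← e4]
    exact e1
  -- `N(D) ∩ N(Q) = D`
  have hWN : ∀ x : G, x ∈ normalizer (D : Set G) → x ∈ normalizer (Q : Set G) → x ∈ D := by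
    intro x hx hxN
    have hzn : zpowers u₀ ≤ normalizer (D : Set G) := by
      rw [hW]; exact le_sup_right
    rw [hW, Cfsg.Agent.Lib.Coprime.Coset.mem_sup_iff_of_le_normalizer hzn] at hx
    obtain ⟨d, hd, z, hz, rfl⟩ := hx
    rw [mem_zpowers_iff] at hz
    obtain ⟨k, rfl⟩ := hz
    have h4 : u₀ ^ (2 : ℤ) = 1 := by
      have := pow_orderOf_eq_one u₀
      rw [h2] at this
      exact_mod_cast this
    rcases Int.even_or_odd' k with ⟨c, rfl | rfl⟩
    · rw [zpow_mul, h4, one_zpow, mul_one]; exact hd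
    · exfalso
      apply hu₀N
      rw [zpow_add, zpow_mul, h4, one_zpow, one_mul, zpow_one] at hxN
      have hdN : d ∈ normalizer (Q : Set G) := H.le_norm hd
      have := (normalizer (Q : Set G)).mul_mem ((normalizer (Q : Set G)).inv_mem hdN) hxN
      simpa using this
  -- `m` normalizes `D`, so `m ∈ D ∩ Q = 1`
  have hmD : (m : G) ∈ D := by
    apply hWN _ _ hmN
    rw [Subgroup.mem_normalizer_iff]
    have hDsub : ∀ d ∈ D, (m : G)⁻¹ * d * (m : G) ∈ D := by
      intro d hd
      apply hWN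
      · exact hconj d (Subgroup.le_normalizer hd)
      · exact (normalizer (Q : Set G)).mul_mem ((normalizer (Q : Set G)).mul_mem
          ((normalizer (Q : Set G)).inv_mem hmN) (H.le_norm hd)) hmN
    -- the map `d ↦ m⁻¹ d m` is a bijection of `D`
    have hbij : ∀ d ∈ D, (m : G) * d * (m : G)⁻¹ ∈ D := by
      intro d hd
      let f : D → D := fun x => ⟨(m : G)⁻¹ * x * (m : G), hDsub x x.2⟩
      have hf : Function.Injective f := by
        intro x y hxy
        have := congrArg Subtype.val hxy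
        simp only [f] at this
        apply Subtype.ext
        have h5 : (m : G)⁻¹ * (x : G) = (m : G)⁻¹ * (y : G) := mul_right_cancel this
        exact mul_left_cancel h5
      obtain ⟨x, hx⟩ := (Finite.injective_iff_surjective.mp hf) ⟨d, hd⟩
      have h6 : (m : G)⁻¹ * (x : G) * (m : G) = d := congrArg Subtype.val hx
      rw [← h6]
      have : (m : G) * ((m : G)⁻¹ * (x : G) * (m : G)) * (m : G)⁻¹ = x := by group
      rw [this]
      exact x.2
    intro d
    refine ⟨hbij d, fun h => ?_⟩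
    have := hDsub _ h
    have e : (m : G)⁻¹ * ((m : G) * d * (m : G)⁻¹) * (m : G) = d := by group
    rwa [e] at this
  have hm1 : (m : G) ∈ Q ⊓ D := ⟨m.2, hmD⟩
  rw [H.hQD, mem_bot] at hm1
  apply hc2
  rw [← hm, hm1, one_smul]

theorem faithful [IsSimpleGroup G] (hi : (normalizer (Q : Set G)) ≠ ⊤) : FaithfulSMul G (Om Q) := by
  constructor
  intro g₁ g₂ h
  have hcore : (g₂⁻¹ * g₁) ∈ (normalizer (Q : Set G)).normalCore := by
    rw [Subgroup.normalCore_eq_ker]
    rw [MonoidHom.mem_ker]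
    ext p
    simp only [MulAction.toPermHom_apply, MulAction.toPerm_apply, Equiv.Perm.coe_one, id_eq, mul_smul]
    rw [h p, inv_smul_smul]
  rcases (Subgroup.normalCore_normal (normalizer (Q : Set G))).eq_bot_or_eq_top with hb | ht
  · rw [hb, mem_bot] at hcore
    exact (inv_mul_eq_one.1 hcore).symm
  · exact absurd (top_le_iff.1 (ht ▸ Subgroup.normalCore_le _)) hi

end Data

/-- **Main theorem of this file.** -/
theorem psl_of_data [IsSimpleGroup G] (hna : ¬ IsMulCommutative G) {Q D : Subgroup G} (H : Data Q D) :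
    ∃ (K : Type) (_ : Field K) (_ : Fintype K), ringChar K ≠ 2 ∧
      Nonempty (G ≃* Matrix.ProjectiveSpecialLinearGroup (Fin 2) K) := by
  classical
  have hG := H.card_G
  have hq := H.hD
  have hdpos : 0 < Nat.card D := Nat.card_pos
  -- `D` is nontrivial
  have hD1 : D ≠ ⊥ := by
    intro hb
    have h1 : Nat.card D = 1 := by rw [hb]; exact Subgroup.card_bot
    have hq3 : Nat.card Q = 3 := by omega
    rw [h1, hq3] at hG
    have h12 : Nat.card G = 2 ^ 2 * 3 ^ 1 := by rw [hG]; norm_num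
    have hp := Cfsg.Agent.Lib.Basic.SmallSimple.prime_card_of_card_eq Nat.prime_two Nat.prime_three 2 1 h12
    rw [h12] at hp
    norm_num at hp
  have hd2 : 2 ≤ Nat.card D := by
    by_contra hcon
    have : Nat.card D = 1 := by omega
    exact hD1 ((Subgroup.card_eq_one).1 this) 
  have hiN : normalizer (Q : Set G) ≠ ⊤ := by
    intro ht
    have := H.index_N
    rw [ht, Subgroup.index_top] at this
    have : 0 < Nat.card Q := Nat.card_pos
    omega
  haveI := H.faithful hiN
  have hZ : Cfsg.IsZassenhausGroup G (Om Q) := by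
    refine ⟨inferInstance, H.two_trans, ?_, ?_, ?_⟩
    · intro g a b c hab hbc hac ha hb hc
      exact H.eq_one_of_fix_three hD1 hab hbc hac ha hb hc
    · obtain ⟨-, u₀, h2, hu₀, hinv, hW⟩ := H.hX D le_rfl hD1
      have hu₀N := H.not_mem_N h2 hu₀ hinv
      obtain ⟨d, hd, hd1⟩ := (Subgroup.ne_bot_iff_exists_ne_one.mp hD1 |>.imp fun x hx => hx) |> fun ⟨x, hx⟩ => (⟨x.1, x.2, fun e => hx (Subtype.ext e)⟩ : ∃ d : G, d ∈ D ∧ d ≠ 1)
      refine ⟨d, hd1, x0 Q, u₀ • x0 Q, fun e => hu₀N (Data.mem_of_smul_x0 e.symm), ?_, ?_⟩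
      · exact Data.smul_x0_of_mem (H.le_norm hd)
      · have h4 : u₀ * u₀ = 1 := by
          have := pow_orderOf_eq_one u₀
          rw [h2, pow_two] at this
          exact this
        have h5 : u₀⁻¹ = u₀ := inv_eq_of_mul_eq_one_left h4
        have h6 : d * u₀ = u₀ * d⁻¹ := by
          have h7 := hinv (d⁻¹) (D.inv_mem hd)
          rw [inv_inv, h5] at h7
          calc d * u₀ = (u₀ * d⁻¹ * u₀) * u₀ := by rw [h7]
            _ = u₀ * d⁻¹ * (u₀ * u₀) := by group
            _ = u₀ * d⁻¹ := by rw [h4, mul_one]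
        rw [← mul_smul, h6, mul_smul, Data.smul_x0_of_mem (H.le_norm (D.inv_mem hd))]
    · intro N₁ hN₁ htr
      have hcard : 1 < Nat.card Q := by omega
      rcases hN₁.eq_bot_or_eq_top with hb | ht
      · exfalso
        subst hb
        obtain ⟨-, u₀, h2, hu₀, hinv, hW⟩ := H.hX D le_rfl hD1
        have hu₀N := H.not_mem_N h2 hu₀ hinv
        obtain ⟨g, hg⟩ := htr.exists_smul_eq (x0 Q) (u₀ • x0 Q)
        have : (g : G) = 1 := Subgroup.mem_bot.1 g.2
        have h3 : (g : G) • x0 Q = u₀ • x0 Q := hg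
        rw [this, one_smul] at h3
        exact hu₀N (Data.mem_of_smul_x0 h3.symm)
      · subst ht
        refine ⟨x0 Q, ?_⟩
        obtain ⟨d, hd, hd1⟩ := (Subgroup.ne_bot_iff_exists_ne_one.mp hD1 |>.imp fun x hx => hx) |> fun ⟨x, hx⟩ => (⟨x.1, x.2, fun e => hx (Subtype.ext e)⟩ : ∃ d : G, d ∈ D ∧ d ≠ 1)
        intro hs
        have : (⟨d, Subgroup.mem_top d⟩ : (⊤ : Subgroup G)) ∈ MulAction.stabilizer (⊤ : Subgroup G) (x0 Q) := by
          change d • x0 Q = x0 Q
          exact Data.smul_x0_of_mem (H.le_norm hd)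
        have h5 : (⟨d, Subgroup.mem_top d⟩ : (⊤ : Subgroup G)) ∈ (⊥ : Subgroup (⊤ : Subgroup G)) := hs ▸ this
        exact hd1 (congrArg Subtype.val (Subgroup.mem_bot.1 h5))
  have hQle : Q ≤ stabilizer G (x0 Q) := by
    rw [Data.stabilizer_x0]
    exact Subgroup.le_normalizer
  have hQn : (Q.subgroupOf (stabilizer G (x0 Q))).Normal := by
    rw [Data.stabilizer_x0]
    exact Subgroup.normal_in_normalizer
  have hQab : IsMulCommutative Q := ⟨⟨fun a b => Subtype.ext (H.comm_Q a.2 b.2)⟩⟩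
  rcases Cfsg.Agent.S0731.result hZ (x0 Q) Q hQle hQn hQab (fun y z hy hz => H.existsUnique_smul hy hz)
    with ⟨h3, -⟩ | h
  · exfalso
    -- sharply triply transitive is too big
    have hcΩ := H.card_Om
    haveI : Fintype (Om Q) := Fintype.ofFinite _
    have hΩ3 : 3 ≤ Nat.card (Om Q) := by omega
    have hemb : Nonempty (Fin 3 ↪ Om Q) := by
      apply Function.Embedding.nonempty_of_card_le
      rw [Fintype.card_fin, ← Nat.card_eq_fintype_card]
      exact hΩ3
    obtain ⟨t₀⟩ := hemb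
    haveI : MulAction.IsPretransitive G (Fin 3 ↪ Om Q) := h3
    have hsurj : Function.Surjective (fun g : G => g • t₀) := MulAction.surjective_smul G t₀
    have hc := Nat.card_le_card_of_surjective _ hsurj
    rw [Nat.card_eq_fintype_card (α := Fin 3 ↪ Om Q), Fintype.card_embedding_eq, Fintype.card_fin,
      ← Nat.card_eq_fintype_card, hcΩ, hG] at hc
    have e : (Nat.card Q + 1).descFactorial 3 = (Nat.card Q + 1) * Nat.card Q * (Nat.card Q - 1) := by
      obtain ⟨c, hc'⟩ : ∃ c, Nat.card Q = c + 1 := ⟨Nat.card Q - 1, by omega⟩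
      rw [hc']
      simp [Nat.descFactorial_succ]
      ring
    rw [e] at hc
    have h4 : Nat.card Q - 1 = 2 * Nat.card D := by omega
    rw [h4] at hc
    have hpos : 0 < Nat.card Q * (Nat.card Q + 1) * Nat.card D :=
      Nat.mul_pos (Nat.mul_pos Nat.card_pos (by omega)) hdpos
    nlinarith
  · exact h

/-- Brauer–Suzuki–Wall in a simple group. -/
theorem psl_of_bsw [IsSimpleGroup G] (hna : ¬ IsMulCommutative G) (t : G) (ht : orderOf t = 2)
    (K : Subgroup G) (hKab : IsMulCommutative ↥K) (hKH : K ≤ Subgroup.centralizer ({t} : Set G)) (htK : t ∈ K)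
    (s : G) (hs : orderOf s = 2) (hsH : s ∈ Subgroup.centralizer ({t} : Set G)) (hsK : s ∉ K)
    (hH : K ⊔ Subgroup.zpowers s = Subgroup.centralizer ({t} : Set G))
    (hCK : K ⊓ Subgroup.centralizer ({s} : Set G) = Subgroup.zpowers t)
    (hinv : ∀ x ∈ K, s * x * s⁻¹ = x⁻¹)
    (hTI : ∀ g : G, g ∉ Subgroup.centralizer ({t} : Set G) → K ⊓ K.map (MulAut.conj g).toMonoidHom = ⊥)
    (hconj : ∀ x y : G, orderOf x = 2 → orderOf y = 2 → IsConj x y) :
    ∃ (F : Type) (_ : Field F) (_ : Fintype F), ringChar F ≠ 2 ∧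
      Nonempty (G ≃* Matrix.ProjectiveSpecialLinearGroup (Fin 2) F) := by
  obtain ⟨Q, D, h1, h2, h3, h4, h5, h6, h7⟩ :=
    Cfsg.Agent.S3282.result t ht K hKab hKH htK s hs hsH hsK hH hCK hinv hTI hconj
  exact psl_of_data hna ⟨h1, h2, h3, h4, h5, h6, h7⟩

end Cfsg.Agent.Lib.SelfCen.BSWSimple
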