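import Mathlib
import Cfsg.Agent.Lib.Coprime.Coset
import Cfsg.Agent.Lib.Blocks.MixP.CaseII

/-!
# Groups in which non-cyclic subgroups contain their centralizers: elementary facts
-/

set_option autoImplicit false
set_option linter.unusedVariables false
set_option linter.style.haveILetI false
set_option linter.unusedSectionVars false

namespace Cfsg.Agent.Lib.SelfCen.Basic

open Subgroup

variable {G : Type*} [Group G]

/-- Non-cyclic subgroups contain their centralizers. -/
def SC (G : Type*) [Group G] : Prop :=
  ∀ H : Subgroup G, ¬ IsCyclic H → centralizer (H : Set G) ≤ H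

theorem mul_self_of_order {x : G} (h : orderOf x = 2) : x * x = 1 := by
  have := pow_orderOf_eq_one x
  rwa [h, pow_two] at this

theorem ne_one_of_order {x : G} (h : orderOf x = 2) : x ≠ 1 := by
  rintro rfl
  simp at h

theorem order_of_mul_self {x : G} (h : x * x = 1) (h1 : x ≠ 1) : orderOf x = 2 :=
  orderOf_eq_prime (by rw [pow_two]; exact h) h1

theorem inv_of_order {x : G} (h : orderOf x = 2) : x⁻¹ = x :=
  inv_eq_of_mul_eq_one_left (mul_self_of_order h)

/-- The explicit group `{1, u, v, uv}`. -/
def kl (u v : G) (hu : u * u = 1) (hv : v * v = 1) (huv : u * v = v * u) : Subgroup G where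
  carrier := {x | x = 1 ∨ x = u ∨ x = v ∨ x = u * v}
  one_mem' := Or.inl rfl
  mul_mem' := by
    have e1 : ∀ x, u * (u * x) = x := fun x => by rw [← mul_assoc, hu, one_mul]
    have e2 : ∀ x, v * (v * x) = x := fun x => by rw [← mul_assoc, hv, one_mul]
    have e3 : ∀ x, v * (u * x) = u * (v * x) := fun x => by rw [← mul_assoc, ← huv, mul_assoc]
    rintro a b (rfl | rfl | rfl | rfl) (rfl | rfl | rfl | rfl) <;>
      simp [mul_assoc, e1, e2, e3, hu, hv, ← huv]
  inv_mem' := by
    have hu' : u⁻¹ = u := inv_eq_of_mul_eq_one_left hu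
    have hv' : v⁻¹ = v := inv_eq_of_mul_eq_one_left hv
    rintro a (rfl | rfl | rfl | rfl)
    · simp
    · simp [hu']
    · simp [hv']
    · simp [hu', hv', huv]

theorem mem_kl {u v : G} {hu : u * u = 1} {hv : v * v = 1} {huv : u * v = v * u} {x : G} :
    x ∈ kl u v hu hv huv ↔ x = 1 ∨ x = u ∨ x = v ∨ x = u * v := Iff.rfl

/-- Two distinct involutions prevent a group from being cyclic. -/
theorem not_cyclic_of_two [Finite G] {H : Subgroup G} {u v : G} (hu : u ∈ H) (hv : v ∈ H)
    (hu2 : orderOf u = 2) (hv2 : orderOf v = 2) (hne : u ≠ v) : ¬ IsCyclic H := by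
  classical
  intro hc
  haveI : Fintype H := Fintype.ofFinite _
  have h := IsCyclic.card_pow_eq_one_le (α := H) (n := 2) (by norm_num)
  have hsub : ({1, ⟨u, hu⟩, ⟨v, hv⟩} : Finset H) ⊆ Finset.univ.filter (fun a : H => a ^ 2 = 1) := by
    intro a ha
    simp only [Finset.mem_insert, Finset.mem_singleton] at ha
    rw [Finset.mem_filter]
    refine ⟨Finset.mem_univ _, ?_⟩
    rcases ha with rfl | rfl | rfl
    · simp
    · apply Subtype.ext
      simp [pow_two, mul_self_of_order hu2]
    · apply Subtype.ext
      simp [pow_two, mul_self_of_order hv2]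
  have hc3 : ({1, ⟨u, hu⟩, ⟨v, hv⟩} : Finset H).card = 3 := by
    rw [Finset.card_insert_of_notMem, Finset.card_insert_of_notMem, Finset.card_singleton]
    · simp only [Finset.mem_singleton, ne_eq, Subtype.mk.injEq]
      exact hne
    · simp only [Finset.mem_insert, Finset.mem_singleton, not_or]
      constructor
      · intro e
        exact ne_one_of_order hu2 (congrArg Subtype.val e).symm
      · intro e
        exact ne_one_of_order hv2 (congrArg Subtype.val e).symm
  have := Finset.card_le_card hsub
  omega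

/-- Elements commuting with two commuting distinct involutions. -/
theorem mem_four [Finite G] (hSC : SC G) {u v x : G} (hu : orderOf u = 2) (hv : orderOf v = 2)
    (hne : u ≠ v) (huv : u * v = v * u) (hxu : x * u = u * x) (hxv : x * v = v * x) :
    x = 1 ∨ x = u ∨ x = v ∨ x = u * v := by
  have hu' := mul_self_of_order hu
  have hv' := mul_self_of_order hv
  have huV : u ∈ kl u v hu' hv' huv := Or.inr (Or.inl rfl)
  have hvV : v ∈ kl u v hu' hv' huv := Or.inr (Or.inr (Or.inl rfl))
  have hnc := not_cyclic_of_two huV hvV hu hv hne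
  have hc : x ∈ centralizer ((kl u v hu' hv' huv : Subgroup G) : Set G) := by
    rw [mem_centralizer_iff]
    rintro h (rfl | rfl | rfl | rfl)
    · simp
    · exact hxu.symm
    · exact hxv.symm
    · rw [mul_assoc, ← hxv, ← mul_assoc, ← hxu, mul_assoc]
  exact hSC _ hnc hc

/-- The squares of elements of a four-group. -/
theorem sq_of_four {u v x : G} (hu : u * u = 1) (hv : v * v = 1) (huv : u * v = v * u)
    (h : x = 1 ∨ x = u ∨ x = v ∨ x = u * v) : x * x = 1 := by
  rcases h with rfl | rfl | rfl | rfl
  · simp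
  · exact hu
  · exact hv
  · calc u * v * (u * v) = u * (v * u) * v := by group
      _ = u * (u * v) * v := by rw [huv]
      _ = (u * u) * (v * v) := by group
      _ = 1 := by rw [hu, hv, one_mul]

theorem mul_comm_of_cyc {H : Type*} [Group H] [IsCyclic H] (a b : H) : a * b = b * a := by
  haveI := IsCyclic.commutative (α := H)
  exact mul_comm' a b

/-- The element `y` of odd order cannot be inverted by an involution commuting with the
involution `t` centralizing `y`. -/
theorem no_inv [Finite G] (hSC : SC G) {t u y : G} (ht : orderOf t = 2) (hu : orderOf u = 2)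
    (htu : u * t = t * u) (hyt : y * t = t * y) (hodd : Odd (orderOf y)) (hy1 : y ≠ 1)
    (hinv : u * y * u⁻¹ = y⁻¹) : False := by
  classical
  have huinv := inv_of_order hu
  have hcomm : u * y ≠ y * u := by
    intro e
    have h1 : u * y * u⁻¹ = y := by rw [e]; group
    rw [hinv] at h1
    have h2 : y * y = 1 := by
      nth_rewrite 1 [← h1]
      simp
    have h3 : orderOf y ∣ 2 := orderOf_dvd_of_pow_eq_one (by rw [pow_two]; exact h2)
    have h4 : orderOf y = 1 ∨ orderOf y = 2 := (Nat.dvd_prime Nat.prime_two).1 h3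
    rcases h4 with h4 | h4
    · exact hy1 (orderOf_eq_one_iff.1 h4)
    · rw [h4] at hodd
      exact absurd hodd (by decide)
  have hconj : ∀ k : ℤ, u * y ^ k * u⁻¹ = y ^ (-k) := by
    intro k
    have := conj_zpow (a := u) (b := y) (i := k)
    rw [← this, hinv, inv_zpow, zpow_neg]
  have hN : zpowers u ≤ normalizer ((zpowers y : Subgroup G) : Set G) := by
    rw [zpowers_le, Subgroup.mem_normalizer_iff]
    intro x
    constructor
    · intro hx
      obtain ⟨k, rfl⟩ := mem_zpowers_iff.1 hx
      change u * y ^ k * u⁻¹ ∈ zpowers y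
      rw [hconj]
      exact zpow_mem (mem_zpowers y) _
    · intro hx
      obtain ⟨k, hk⟩ := mem_zpowers_iff.1 hx
      have : x = y ^ (-k) := by
        rw [← hconj, hk, huinv]
        have e := mul_self_of_order hu
        calc x = (u * u) * x * (u * u) := by rw [e]; simp
          _ = _ := by group
      rw [this]
      exact zpow_mem (mem_zpowers y) _
  set H : Subgroup G := zpowers y ⊔ zpowers u with hH
  have hyH : y ∈ H := (le_sup_left : zpowers y ≤ H) (mem_zpowers y)
  have huH : u ∈ H := (le_sup_right : zpowers u ≤ H) (mem_zpowers u)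
  have hnc : ¬ IsCyclic H := by
    intro hc
    apply hcomm
    have := mul_comm_of_cyc (H := H) ⟨u, huH⟩ ⟨y, hyH⟩
    exact congrArg Subtype.val this
  have htC : t ∈ centralizer ((H : Subgroup G) : Set G) := by
    have hle : H ≤ centralizer ({t} : Set G) := by
      apply sup_le
      · rw [zpowers_le, mem_centralizer_singleton_iff]
        exact hyt
      · rw [zpowers_le, mem_centralizer_singleton_iff]
        exact htu
    rw [mem_centralizer_iff]
    intro h hh
    exact mem_centralizer_singleton_iff.1 (hle hh)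
  have htH : t ∈ H := hSC H hnc htC
  rw [hH, Cfsg.Agent.Lib.Coprime.Coset.mem_sup_iff_of_le_normalizer hN] at htH
  obtain ⟨n, hn, a, ha, e⟩ := htH
  obtain ⟨k, rfl⟩ := mem_zpowers_iff.1 hn
  obtain ⟨l, rfl⟩ := mem_zpowers_iff.1 ha
  have hu2z : u ^ (2 : ℤ) = 1 := by
    have := pow_orderOf_eq_one u
    rw [hu] at this
    exact_mod_cast this
  rcases Int.even_or_odd' l with ⟨c, rfl | rfl⟩
  · rw [zpow_mul, hu2z, one_zpow, mul_one] at e
    have h1 : t ^ orderOf y = 1 := by
      rw [← e, ← zpow_natCast, ← zpow_mul, mul_comm, zpow_mul, zpow_natCast, pow_orderOf_eq_one, one_zpow]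
    have h2 : orderOf t ∣ orderOf y := orderOf_dvd_of_pow_eq_one h1
    rw [ht] at h2
    exact (Nat.not_even_iff_odd.2 hodd) (even_iff_two_dvd.2 h2)
  · rw [zpow_add, zpow_mul, hu2z, one_zpow, one_mul, zpow_one] at e
    apply hcomm
    rw [← e] at hyt
    have h3 : y * y ^ k = y ^ k * y := (Commute.refl y).zpow_right k
    have h4 : y ^ k * (u * y) = y ^ k * (y * u) := by
      calc y ^ k * (u * y) = y ^ k * u * y := by group
        _ = y * (y ^ k * u) := hyt.symm
        _ = (y * y ^ k) * u := by group
        _ = (y ^ k * y) * u := by rw [h3]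
        _ = y ^ k * (y * u) := by group
    exact mul_left_cancel h4

/-- Products of involutions in the centralizer of an involution have `2`-power order. -/
theorem order_two_pow [Finite G] (hSC : SC G) {t u v : G} (ht : orderOf t = 2) (hu : orderOf u = 2)
    (hv : orderOf v = 2) (hut : u * t = t * u) (hvt : v * t = t * v) :
    ∃ e : ℕ, orderOf (u * v) = 2 ^ e := by
  set w : G := u * v with hw
  obtain ⟨e, m, hm, h⟩ := Nat.exists_eq_two_pow_mul_odd (orderOf_pos w).ne'
  by_cases hm1 : m = 1
  · exact ⟨e, by rw [h, hm1, mul_one]⟩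
  exfalso
  have hord : orderOf (w ^ 2 ^ e) = m := by
    rw [orderOf_pow_of_dvd (by positivity) (by rw [h]; exact dvd_mul_right _ _), h]
    exact Nat.mul_div_cancel_left _ (by positivity)
  have huinv := inv_of_order hu
  have hvinv := inv_of_order hv
  have hwinv : u * w * u⁻¹ = w⁻¹ := by
    rw [hw, huinv, mul_inv_rev, huinv, hvinv]
    calc u * (u * v) * u = (u * u) * v * u := by group
      _ = v * u := by rw [mul_self_of_order hu, one_mul]
  have hwt : w * t = t * w := by
    rw [hw]
    calc u * v * t = u * (v * t) := by group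
      _ = u * (t * v) := by rw [hvt]
      _ = (u * t) * v := by group
      _ = (t * u) * v := by rw [hut]
      _ = t * (u * v) := by group
  apply no_inv hSC ht hu hut (y := w ^ 2 ^ e)
  · exact ((Commute.pow_left hwt _ : Commute (w ^ 2 ^ e) t)).eq
  · rw [hord]; exact hm
  · intro e1
    rw [e1, orderOf_one] at hord
    exact hm1 hord.symm
  · have := conj_pow (a := u) (b := w) (i := 2 ^ e)
    rw [← this, hwinv, inv_pow]

/-- A group generated by two involutions with product of `2`-power order is a `2`-group. -/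
theorem isPGroup_of_two {a c : G} [Finite G] (ha : orderOf a = 2) (hc : orderOf c = 2) {e : ℕ}
    (h : orderOf (a * c) = 2 ^ e) : IsPGroup 2 ↥(zpowers a ⊔ zpowers c) := by
  haveI : Fact (Nat.Prime 2) := ⟨Nat.prime_two⟩
  have hainv := inv_of_order ha
  have hcinv := inv_of_order hc
  have haa := mul_self_of_order ha
  have hcc := mul_self_of_order hc
  have hconj : ∀ k : ℤ, a * (a * c) ^ k * a⁻¹ = (a * c) ^ (-k) := by
    intro k
    have := conj_zpow (a := a) (b := a * c) (i := k)
    rw [← this]
    have e1 : a * (a * c) * a⁻¹ = (a * c)⁻¹ := by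
      rw [hainv, mul_inv_rev, hainv, hcinv]
      calc a * (a * c) * a = (a * a) * c * a := by group
        _ = c * a := by rw [haa, one_mul]
    rw [e1, inv_zpow, zpow_neg]
  have hN : zpowers a ≤ normalizer ((zpowers (a * c) : Subgroup G) : Set G) := by
    rw [zpowers_le, Subgroup.mem_normalizer_iff]
    intro x
    constructor
    · intro hx
      obtain ⟨k, rfl⟩ := mem_zpowers_iff.1 hx
      change a * (a * c) ^ k * a⁻¹ ∈ zpowers (a * c)
      rw [hconj]
      exact zpow_mem (mem_zpowers _) _
    · intro hx
      obtain ⟨k, hk⟩ := mem_zpowers_iff.1 hx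
      have : x = (a * c) ^ (-k) := by
        rw [← hconj, hk, hainv]
        calc x = (a * a) * x * (a * a) := by rw [haa]; simp
          _ = _ := by group
      rw [this]
      exact zpow_mem (mem_zpowers _) _
  have hcard := Cfsg.Agent.Lib.Blocks.MixP.card_sup_of_le_normalizer hN
  rw [Nat.card_zpowers, Nat.card_zpowers, h, ha] at hcard
  have hdvd : Nat.card ↥(zpowers (a * c) ⊔ zpowers a) ∣ 2 ^ (e + 1) := by
    rw [pow_succ, ← hcard]
    exact dvd_mul_right _ _
  obtain ⟨k, -, hk⟩ := (Nat.dvd_prime_pow Nat.prime_two).1 hdvd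
  have hle : zpowers a ⊔ zpowers c ≤ zpowers (a * c) ⊔ zpowers a := by
    apply sup_le le_sup_right
    rw [zpowers_le]
    have h1 : a⁻¹ * (a * c) = c := by group
    have h2 : a ∈ zpowers (a * c) ⊔ zpowers a :=
      (le_sup_right : zpowers a ≤ zpowers (a * c) ⊔ zpowers a) (mem_zpowers a)
    have h3 : a * c ∈ zpowers (a * c) ⊔ zpowers a :=
      (le_sup_left : zpowers (a * c) ≤ zpowers (a * c) ⊔ zpowers a) (mem_zpowers (a * c))
    have h4 := Subgroup.mul_mem _ (Subgroup.inv_mem _ h2) h3
    rwa [h1] at h4
  have hp : IsPGroup 2 ↥(zpowers (a * c) ⊔ zpowers a) := IsPGroup.of_card hk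
  exact hp.to_le hle

end Cfsg.Agent.Lib.SelfCen.Basic
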