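import Mathlib
import Cfsg.Agent.S0199
import Cfsg.Agent.S0215
import Cfsg.Agent.Lib.PGroup.Taussky
import Cfsg.Agent.Lib.PGroup.MaximalClass
import Cfsg.Agent.Lib.PGroup.WreathedT
import Cfsg.Agent.Lib.SelfCen.Basic

/-!
# Self-centralizing non-cyclic subgroups: the centralizer of a central involution of a Sylow subgroup
-/

set_option autoImplicit false
set_option linter.unusedVariables false
set_option linter.style.haveILetI false
set_option linter.unusedSectionVars false

namespace Cfsg.Agent.Lib.SelfCen.Central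

open Subgroup Cfsg.Agent.Lib.SelfCen.Basic

variable {G : Type*} [Group G] [Finite G]

theorem mem_cent {t x : G} : x ∈ centralizer ({t} : Set G) ↔ x * t = t * x := by
  rw [Subgroup.mem_centralizer_iff]
  simp [eq_comm]

/-- A central involution of a Sylow `2`-subgroup. -/
theorem exists_central_inv (S : Sylow 2 G) (h2 : 2 ∣ Nat.card G) :
    ∃ t : G, orderOf t = 2 ∧ t ∈ (S : Subgroup G) ∧ ∀ x ∈ (S : Subgroup G), x * t = t * x := by
  haveI : Fact (Nat.Prime 2) := ⟨Nat.prime_two⟩
  have hS : IsPGroup 2 (S : Subgroup G) := S.isPGroup'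
  have hne : (S : Subgroup G) ≠ ⊥ := by
    intro h
    have := S.not_dvd_index
    rw [h, Subgroup.index_bot] at this
    exact this h2
  haveI : Nontrivial (S : Subgroup G) := (Subgroup.nontrivial_iff_ne_bot _).mpr hne
  have hc := hS.center_nontrivial
  obtain ⟨t, ht, ht2⟩ := Cfsg.Agent.Lib.PGroup.Taussky.exists_order_two_in hS (center (S : Subgroup G))
    ((Subgroup.nontrivial_iff_ne_bot _).mp hc)
  refine ⟨t, by rwa [Subgroup.orderOf_coe], t.2, fun x hx => ?_⟩
  have := (Subgroup.mem_center_iff.1 ht) ⟨x, hx⟩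
  exact congrArg Subtype.val this

/-- An involution of a Sylow `2`-subgroup of a simple non-abelian group has another conjugate in
the Sylow subgroup (Glauberman's `Z*`-theorem). -/
theorem exists_conj_inv [IsSimpleGroup G] (hna : ¬ IsMulCommutative G) (S : Sylow 2 G)
    (h2 : 2 ∣ Nat.card G) {t : G} (ht : orderOf t = 2) (htS : t ∈ (S : Subgroup G)) :
    ∃ g : G, g * t * g⁻¹ ∈ (S : Subgroup G) ∧ g * t * g⁻¹ ≠ t := by
  by_contra hcon
  push_neg at hcon
  obtain ⟨N, hNn, hNo, hN⟩ := Cfsg.Agent.S0215.result S t ht htS hcon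
  rcases hNn.eq_bot_or_eq_top with h | h
  · subst h
    have hc : t ∈ center G := by
      rw [Subgroup.mem_center_iff]
      intro g
      have := hN g
      rw [Subgroup.mem_bot] at this
      have e : t * g * t⁻¹ = g := by
        have h3 : t * g * t⁻¹ * g⁻¹ * g = g := by rw [this, one_mul]
        simpa using h3
      have := congrArg (· * t) e
      simpa using this.symm
    have hcn : (center G).Normal := inferInstance
    rcases hcn.eq_bot_or_eq_top with h | h
    · rw [h, Subgroup.mem_bot] at hc
      exact ne_one_of_order ht hc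
    · apply hna
      refine ⟨⟨fun a b => ?_⟩⟩
      have : a ∈ center G := by rw [h]; trivial
      exact (Subgroup.mem_center_iff.1 this b).symm
  · subst h
    have : Odd (Nat.card G) := by
      have := hNo
      rwa [Subgroup.card_top] at this
    rw [← Nat.not_even_iff_odd, even_iff_two_dvd] at this
    exact this h2

/-- If `t` is a central involution of the Sylow subgroup `S`, all involutions of `C(t)` lie in `S`. -/
theorem inv_mem_sylow (hSC : SC G) (S : Sylow 2 G) {t : G} (ht : orderOf t = 2)
    (htc : ∀ x ∈ (S : Subgroup G), x * t = t * x) {v : G} (hv : orderOf v = 2)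
    (hvt : v * t = t * v) : v ∈ (S : Subgroup G) := by
  classical
  haveI : Fact (Nat.Prime 2) := ⟨Nat.prime_two⟩
  set T : Subgroup G := centralizer ({t} : Set G) with hT
  have hvT : v ∈ T := mem_cent.2 hvt
  set v' : T := ⟨v, hvT⟩ with hv'
  have hv'2 : orderOf v' = 2 := by rw [hv', Subgroup.orderOf_mk]; exact hv
  have hX : IsPGroup 2 (zpowers v') := by
    rw [IsPGroup.iff_card]
    exact ⟨1, by rw [Nat.card_zpowers, hv'2, pow_one]⟩
  have hb : ∀ g : T, IsPGroup 2 ↥(zpowers v' ⊔ (zpowers v').map (MulAut.conj g).toMonoidHom) := by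
    intro g
    rw [MonoidHom.map_zpowers]
    have hc : orderOf ((MulAut.conj g).toMonoidHom v') = 2 := by
      rw [orderOf_injective _ (MulAut.conj g).injective]
      exact hv'2
    have hc' : orderOf ((MulAut.conj g).toMonoidHom v' : G) = 2 := by
      rwa [Subgroup.orderOf_coe]
    have hcT : ((MulAut.conj g).toMonoidHom v' : G) * t = t * ((MulAut.conj g).toMonoidHom v' : G) :=
      mem_cent.1 ((MulAut.conj g).toMonoidHom v').2
    obtain ⟨e, he⟩ := order_two_pow hSC ht hv hc' hvt hcT
    refine isPGroup_of_two hv'2 hc (e := e) ?_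
    rw [← Subgroup.orderOf_coe]
    exact he
  obtain ⟨N, hNn, hNp, hXN⟩ := Cfsg.Agent.S0199.result (zpowers v') hX hb
  -- `N` lies in `S`
  set N' : Subgroup G := N.map T.subtype with hN'
  have hSle : (S : Subgroup G) ≤ T := fun x hx => mem_cent.2 (htc x hx)
  have hN'p : IsPGroup 2 N' := hNp.map T.subtype
  have hnorm : (S : Subgroup G) ≤ normalizer (N' : Set G) := by
    intro x hx
    rw [Subgroup.mem_normalizer_iff]
    have hxT := hSle hx
    intro y
    constructor
    · rintro ⟨y', hy', rfl⟩
      refine ⟨⟨x, hxT⟩ * y' * ⟨x, hxT⟩⁻¹, hNn.conj_mem _ hy' _, rfl⟩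
    · rintro ⟨y', hy', e⟩
      have := hNn.conj_mem _ hy' (⟨x, hxT⟩⁻¹ : T)
      refine ⟨_, this, ?_⟩
      simp only [subtype_apply, coe_mul, InvMemClass.coe_inv] at e ⊢
      rw [e]
      group
  have hsup : IsPGroup 2 ↥((S : Subgroup G) ⊔ N') :=
    IsPGroup.to_sup_of_normal_right' S.isPGroup' hN'p hnorm
  have hmax := S.is_maximal' hsup le_sup_left
  have hvS : v ∈ (S : Subgroup G) ⊔ N' :=
    (le_sup_right : N' ≤ _) ⟨v', hXN (mem_zpowers _), rfl⟩
  rwa [hmax] at hvS

theorem card_kl {t b : G} (ht : orderOf t = 2) (hb : orderOf b = 2) (hne : t ≠ b) (htb : t * b = b * t) :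
    Nat.card ↥(kl t b (mul_self_of_order ht) (mul_self_of_order hb) htb) = 4 := by
  classical
  have h1 : ((kl t b (mul_self_of_order ht) (mul_self_of_order hb) htb : Subgroup G) : Set G) =
      (({1, t, b, t * b} : Finset G) : Set G) := by
    ext x
    simp [mem_kl]
  have ht1 := ne_one_of_order ht
  have hb1 := ne_one_of_order hb
  have h2 : Nat.card ↥(kl t b (mul_self_of_order ht) (mul_self_of_order hb) htb) =
      Nat.card ((kl t b (mul_self_of_order ht) (mul_self_of_order hb) htb : Subgroup G) : Set G) := rfl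
  rw [h2, Nat.card_coe_set_eq, h1, Set.ncard_coe_finset]
  rw [Finset.card_insert_of_notMem, Finset.card_insert_of_notMem, Finset.card_insert_of_notMem,
    Finset.card_singleton]
  · simp only [Finset.mem_singleton]
    intro h
    exact ht1 (by simpa using h)
  · simp only [Finset.mem_insert, Finset.mem_singleton, not_or]
    exact ⟨hne, fun h => hb1 (by simpa using h)⟩
  · simp only [Finset.mem_insert, Finset.mem_singleton, not_or]
    refine ⟨ht1.symm, hb1.symm, fun h => ?_⟩
    have : t = b⁻¹ := eq_inv_of_mul_eq_one_left h.symm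
    rw [inv_of_order hb] at this
    exact hne this

/-- Conjugates by `C(t)` of the involution `b` stay in `S` and outside `K`. -/
theorem conj_mem_diff (hSC : SC G) (S : Sylow 2 G) {t b : G} (ht : orderOf t = 2)
    (htc : ∀ x ∈ (S : Subgroup G), x * t = t * x) (hb : orderOf b = 2) (htb : t * b = b * t)
    (hne : t ≠ b) (K : Subgroup G) (hKinv : ∀ x ∈ K, orderOf x = 2 → x = t) {x : G}
    (hx : x * t = t * x) : x * b * x⁻¹ ∈ ((S : Subgroup G) : Set G) \ (K : Set G) := by
  have h1 : orderOf (x * b * x⁻¹) = 2 := by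
    have := orderOf_injective (MulAut.conj x).toMonoidHom (MulAut.conj x).injective b
    rw [← hb, ← this]; rfl
  have hxt' : x⁻¹ * t * x = t := by rw [mul_assoc, ← hx]; group
  have h2 : (x * b * x⁻¹) * t = t * (x * b * x⁻¹) := by
    have e1 : x⁻¹ * t = t * x⁻¹ := by
      rw [inv_mul_eq_iff_eq_mul, ← mul_assoc, hx, mul_assoc, mul_inv_cancel, mul_one]
    calc x * b * x⁻¹ * t = x * b * (x⁻¹ * t) := by group
      _ = x * (b * t) * x⁻¹ := by rw [e1]; group
      _ = (x * t) * b * x⁻¹ := by rw [← htb]; group
      _ = _ := by rw [hx]; group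
  refine ⟨inv_mem_sylow hSC S ht htc h1 h2, fun hK' => ?_⟩
  have h3 := hKinv _ hK' h1
  apply hne
  have : b = x⁻¹ * t * x := by rw [← h3]; group
  rw [this, hxt']

/-- The centralizer of the central involution `t` is the Sylow subgroup, once an index-two subgroup
of the Sylow subgroup has `t` as its only involution and `S` contains a further involution. -/
theorem centralizer_le (hSC : SC G) (S : Sylow 2 G) {t b : G} (ht : orderOf t = 2)
    (htS : t ∈ (S : Subgroup G)) (htc : ∀ x ∈ (S : Subgroup G), x * t = t * x) (hb : orderOf b = 2)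
    (hbS : b ∈ (S : Subgroup G)) (hne : t ≠ b) (K : Subgroup G) (hKS : K ≤ S)
    (hK : Nat.card (S : Subgroup G) = 2 * Nat.card K) (hKinv : ∀ x ∈ K, orderOf x = 2 → x = t) :
    centralizer ({t} : Set G) ≤ S := by
  classical
  haveI : Fact (Nat.Prime 2) := ⟨Nat.prime_two⟩
  set T : Subgroup G := centralizer ({t} : Set G) with hT
  have hSle : (S : Subgroup G) ≤ T := fun x hx => mem_cent.2 (htc x hx)
  have htb : t * b = b * t := (htc b hbS).symm
  set V := kl t b (mul_self_of_order ht) (mul_self_of_order hb) htb with hV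
  have hVS : V ≤ S := by
    intro x hx
    rcases hx with rfl | rfl | rfl | rfl
    · exact one_mem _
    · exact htS
    · exact hbS
    · exact mul_mem htS hbS
  have hVT : V ≤ T := hVS.trans hSle
  set L : Subgroup T := V.subgroupOf T with hL
  have hLcard : Nat.card L = 4 := by
    rw [hL, Nat.card_congr (Subgroup.subgroupOfEquivOfLe hVT).toEquiv]
    exact card_kl ht hb hne htb
  -- the conjugation map on cosets of `L`
  have hVb : ∀ y ∈ V, y * b = b * y := by
    intro y hy
    rcases hy with rfl | rfl | rfl | rfl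
    · simp
    · exact htb
    · rfl
    · rw [← mul_assoc, ← htb]
  have hf : ∀ x y : T, (x : G)⁻¹ * y ∈ V → (x : G) * b * (x : G)⁻¹ = (y : G) * b * (y : G)⁻¹ := by
    intro x y hxy
    have h1 := hVb _ hxy
    have e : (y : G) = x * ((x : G)⁻¹ * y) := by group
    rw [e, mul_inv_rev, mul_assoc (x : G), mul_assoc (x : G), ← mul_assoc _ b, h1]
    group
  let f : T ⧸ L → ↥(((S : Subgroup G) : Set G) \ (K : Set G)) := fun q =>
    Quotient.liftOn' q (fun x : T => (⟨(x : G) * b * (x : G)⁻¹,
        conj_mem_diff hSC S ht htc hb htb hne K hKinv (mem_cent.1 x.2)⟩ :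
          ↥(((S : Subgroup G) : Set G) \ (K : Set G))))
      (by
        intro x y hxy
        rw [QuotientGroup.leftRel_apply] at hxy
        exact Subtype.ext (hf x y hxy))
  have hfinj : Function.Injective f := by
    intro q₁ q₂
    induction q₁ using QuotientGroup.induction_on with | H x => ?_
    induction q₂ using QuotientGroup.induction_on with | H y => ?_
    intro h
    have h' : (x : G) * b * (x : G)⁻¹ = (y : G) * b * (y : G)⁻¹ := congrArg Subtype.val h
    rw [QuotientGroup.eq]
    change (x : G)⁻¹ * y ∈ V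
    have hc : ((x : G)⁻¹ * y) * b = b * ((x : G)⁻¹ * y) := by
      have e1 : (x : G) * b = (y : G) * b * (y : G)⁻¹ * x := by rw [← h']; group
      have e2 : (y : G) * b = (x : G) * b * (x : G)⁻¹ * y := by rw [h']; group
      rw [mul_assoc, e2]
      group
    have hct : ((x : G)⁻¹ * y) * t = t * ((x : G)⁻¹ * y) :=
      mem_cent.1 (mul_mem (inv_mem x.2) y.2)
    exact mem_four hSC ht hb hne htb hct hc
  have h1 : L.index ≤ Nat.card ↥(((S : Subgroup G) : Set G) \ (K : Set G)) :=
    Nat.card_le_card_of_injective f hfinj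
  have h2 : Nat.card ↥(((S : Subgroup G) : Set G) \ (K : Set G)) + Nat.card K =
      Nat.card (S : Subgroup G) := by
    rw [Nat.card_coe_set_eq, Set.ncard_diff (fun x hx => hKS hx) (Set.toFinite _)]
    have h3 : (K : Set G).ncard ≤ ((S : Subgroup G) : Set G).ncard :=
      Set.ncard_le_ncard (fun x hx => hKS hx) (Set.toFinite _)
    have e1 : Nat.card K = (K : Set G).ncard := Nat.card_coe_set_eq _
    have e2 : Nat.card (S : Subgroup G) = ((S : Subgroup G) : Set G).ncard := Nat.card_coe_set_eq _
    omega
  have h3 := Subgroup.card_mul_index L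
  rw [hLcard] at h3
  -- index of `S` in `T`
  set R : Subgroup T := (S : Subgroup G).subgroupOf T with hR
  have hRcard : Nat.card R = Nat.card (S : Subgroup G) := 
    Nat.card_congr (Subgroup.subgroupOfEquivOfLe hSle).toEquiv
  have h4 := Subgroup.card_mul_index R
  rw [hRcard] at h4
  have hpos : 0 < Nat.card (S : Subgroup G) := Nat.card_pos
  have h5 : R.index ≤ 2 := by
    by_contra hcon
    push_neg at hcon
    have : Nat.card (S : Subgroup G) * 3 ≤ Nat.card T := by
      rw [← h4]; exact Nat.mul_le_mul_left _ hcon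
    nlinarith
  have h6 : ¬ 2 ∣ R.index := by
    intro hd
    apply S.not_dvd_index
    rw [← Subgroup.relIndex_mul_index hSle]
    exact Dvd.dvd.mul_right hd _
  have h7 : R.index = 1 := by
    have : R.index ≠ 0 := Subgroup.index_ne_zero_of_finite
    interval_cases h : R.index
    · exact absurd rfl this
    · rfl
    · exact absurd (dvd_refl 2) h6
  exact Subgroup.relIndex_eq_one.1 h7

end Cfsg.Agent.Lib.SelfCen.Central
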