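import Mathlib
import Cfsg.Agent.Lib.SelfCen.Basic
import Cfsg.Agent.Lib.PSL2.MemberCyc

/-!
# Self-centralizing non-cyclic subgroups in `PSL₂(q)`
-/

set_option autoImplicit false
set_option linter.unusedVariables false
set_option linter.style.haveILetI false
set_option linter.unusedSectionVars false

namespace Cfsg.Agent.Lib.SelfCen.Converse

open Subgroup Cfsg.Agent.Lib.SelfCen.Basic
open Cfsg.Agent.Lib.PSL2.Basic Cfsg.Agent.Lib.PSL2.Members Cfsg.Agent.Lib.PSL2.MemberCyc
open scoped MatrixGroups

variable {F : Type*} [Field F] [Fintype F]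

/-- A subgroup of exponent `p` of `PSL₂(F)` has order dividing `q`. -/
theorem card_dvd_of_pow (p : ℕ) [hp : Fact p.Prime] [CharP F p] (L : Subgroup PSL(2, F))
    (hL : ∀ x ∈ L, x ^ p = 1) : Nat.card L ∣ Fintype.card F := by
  classical
  have hLp : IsPGroup p L := by
    rintro ⟨x, hx⟩
    exact ⟨1, by rw [pow_one]; exact Subtype.ext (hL x hx)⟩
  obtain ⟨a, ha⟩ := IsPGroup.iff_card.1 hLp
  have h1 : Nat.card L ∣ Nat.card PSL(2, F) := Subgroup.card_subgroup_dvd_card L
  have h2 : Nat.card L ∣ Fintype.card F * (Fintype.card F ^ 2 - 1) := by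
    by_cases h2 : (2 : F) = 0
    · rw [← card_PSL2_of_two_eq_zero h2]
      exact h1
    · rw [← card_PSL2_of_two_ne_zero h2]
      exact Dvd.dvd.mul_left h1 _
  obtain ⟨n, -, hn⟩ := FiniteField.card F p
  have hpq : p ∣ Fintype.card F := by
    rw [hn]; exact dvd_pow_self _ n.ne_zero
  have hq1 : 1 ≤ Fintype.card F ^ 2 := Nat.one_le_pow _ _ Fintype.card_pos
  have hcop : Nat.Coprime (Nat.card L) (Fintype.card F ^ 2 - 1) := by
    rw [ha]
    apply Nat.Coprime.pow_left
    rw [Nat.Prime.coprime_iff_not_dvd hp.out]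
    intro h
    have h3 : p ∣ Fintype.card F ^ 2 := hpq.trans (dvd_pow_self _ (by norm_num))
    have h4 : p ∣ 1 := by
      have := (Nat.dvd_sub h3 h)
      have e : Fintype.card F ^ 2 - (Fintype.card F ^ 2 - 1) = 1 := by omega
      rwa [e] at this
    exact hp.out.one_lt.ne' (Nat.dvd_one.1 h4)
  exact hcop.dvd_of_dvd_mul_right h2

theorem isCyclic_of_card {X : Type*} [Group X] [Finite X] (h : Nat.card X = 1 ∨ (Nat.card X).Prime) :
    IsCyclic X := by
  rcases h with h | h
  · haveI : Subsingleton X := (Nat.card_eq_one_iff_unique.1 h).1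
    exact isCyclic_of_subsingleton
  · haveI : Fact (Nat.card X).Prime := ⟨h⟩
    exact isCyclic_of_prime_card rfl

/-- The unipotent case: a non-cyclic subgroup inside a unipotent-type `cbar A` is the whole of it. -/
theorem mem_of_disc_zero (hq : Fintype.card F = 4 ∨ Fintype.card F = 9 ∨ (Fintype.card F).Prime)
    {A : SL(2, F)} (hA : NC A) (hd : disc A = 0) (H : Subgroup PSL(2, F)) (hH : ¬ IsCyclic H)
    (hle : H ≤ cbar A) : mkP A ∈ H := by
  classical
  obtain ⟨p, hch⟩ := CharP.exists F
  obtain ⟨n, hp, hn⟩ := FiniteField.card F p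
  haveI : Fact p.Prime := ⟨hp⟩
  have hexp : ∀ x ∈ cbar A, x ^ p = 1 := by
    intro x hx
    obtain ⟨X, rfl⟩ := mkP_surjective x
    by_cases h1 : mkP X = 1
    · rw [h1, one_pow]
    have hXNC := nc_of_mkP_ne_one h1
    have hc := mkP_mem_cbar.1 hx
    have hdX : disc X = 0 := (disc_eq_zero_iff hA hXNC hc).2 hd
    exact mkP_pow_of_disc p hdX
  have hcb := card_dvd_of_pow p (cbar A) hexp
  have hcH : Nat.card H ∣ Nat.card (cbar A) := Subgroup.card_dvd_of_le hle
  have h1 : Nat.card H ∣ Fintype.card F := hcH.trans hcb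
  have hcases : Nat.card H = Fintype.card F ∨ Nat.card H = 1 ∨ (Nat.card H).Prime := by
    rcases hq with h | h | h
    · rw [h] at h1 ⊢
      have : Nat.card H ≤ 4 := Nat.le_of_dvd (by norm_num) h1
      generalize Nat.card H = c at *
      interval_cases c <;> first | decide | omega
    · rw [h] at h1 ⊢
      have : Nat.card H ≤ 9 := Nat.le_of_dvd (by norm_num) h1
      generalize Nat.card H = c at *
      interval_cases c <;> first | decide | omega
    · rcases (Nat.dvd_prime h).1 h1 with h2 | h2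
      · exact Or.inr (Or.inl h2)
      · exact Or.inl h2
  rcases hcases with h2 | h2
  · have h3 : Nat.card (cbar A) ≤ Nat.card H := by
      rw [h2]; exact Nat.le_of_dvd Fintype.card_pos hcb
    have h4 : H = cbar A := Subgroup.eq_of_le_of_card_ge hle h3
    rw [h4]
    exact mkP_mem_cbar.2 rfl
  · exact absurd (isCyclic_of_card h2) hH

/-- The arithmetic of the torus orders. -/
theorem two_pow_card {q c : ℕ} (hodd : Odd q)
    (hq : q = 9 ∨ (q.Prime ∧ ∃ k : ℕ, q = 2 ^ k + 1 ∨ q = 2 ^ k - 1))
    (hc : c = (q + 1) / Nat.gcd 2 (q - 1) ∨ c = (q - 1) / Nat.gcd 2 (q - 1)) (h2 : 2 ∣ c) :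
    ∃ a : ℕ, c = 2 ^ a := by
  have hgcd : Nat.gcd 2 (q - 1) = 2 := by
    apply Nat.gcd_eq_left
    obtain ⟨c, hc⟩ := hodd
    exact ⟨c, by omega⟩
  rw [hgcd] at hc
  obtain ⟨d, hd⟩ := hodd
  rcases hq with rfl | ⟨hp, k, hk⟩
  · refine ⟨2, ?_⟩
    norm_num at hc
    omega
  · rcases hk with hk | hk
    · rcases k with _ | j
      · simp at hk; subst hk; omega
      · rw [pow_succ] at hk
        rcases hc with hc | hc
        · rcases j with _ | j
          · exact ⟨1, by simp at hk; omega⟩
          · exfalso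
            rw [pow_succ] at hk
            omega
        · exact ⟨j, by omega⟩
    · have hq2 := hp.two_le
      rcases k with _ | j
      · simp at hk; omega
      · rw [pow_succ] at hk
        have hj1 : 1 ≤ 2 ^ j := Nat.one_le_two_pow
        rcases hc with hc | hc
        · exact ⟨j, by omega⟩
        · rcases j with _ | j
          · simp at hk; omega
          · exfalso
            rw [pow_succ] at hk hj1
            omega

theorem isCyclic_of_le {X : Type*} [Group X] [Finite X] {H L : Subgroup X} (hL : IsCyclic L) (hle : H ≤ L) :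
    IsCyclic H :=
  isCyclic_of_injective (Subgroup.inclusion hle) (Subgroup.inclusion_injective hle)

/-- The listed `PSL₂(q)` have the self-centralizing property. -/
theorem sc_psl (hq : Fintype.card F = 4 ∨ Fintype.card F = 9 ∨
    ((Fintype.card F).Prime ∧ ∃ k : ℕ, Fintype.card F = 2 ^ k + 1 ∨ Fintype.card F = 2 ^ k - 1)) :
    SC PSL(2, F) := by
  classical
  intro H hH z hz
  by_contra hzH
  have hz1 : z ≠ 1 := fun e => hzH (e ▸ H.one_mem)
  obtain ⟨A, rfl⟩ := mkP_surjective z
  have hA : NC A := nc_of_mkP_ne_one hz1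
  by_cases hall : H ≤ cbar A
  · by_cases hd : disc A = 0
    · refine hzH (mem_of_disc_zero ?_ hA hd H hH hall)
      rcases hq with h | h | h
      · exact Or.inl h
      · exact Or.inr (Or.inl h)
      · exact Or.inr (Or.inr h.1)
    · exact hH (isCyclic_of_le (cbar_cyclic hA hd).1 hall)
  · obtain ⟨y₀, hy₀, hy₀c⟩ := SetLike.not_le_iff_exists.1 hall
    have hanti : ∀ y ∈ H, y ∉ cbar A → ∀ Y : SL(2, F), mkP Y = y → Y * A * Y⁻¹ = -A := by
      rintro y hy hyc Y rfl
      have h1 : mkP Y * mkP A = mkP A * mkP Y := Subgroup.mem_centralizer_iff.1 hz _ hy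
      have h2 : mkP (A * Y) = mkP (Y * A) := by
        rw [map_mul, map_mul, h1]
      rcases mkP_eq_iff.1 h2 with h3 | h3
      · exact absurd (mkP_mem_cbar.2 h3.symm) hyc
      · rw [h3, neg_mul, mul_inv_cancel_right]
    obtain ⟨Y₀, rfl⟩ := mkP_surjective y₀
    have hY₀ := hanti _ hy₀ hy₀c Y₀ rfl
    have h20 : (2 : F) ≠ 0 := by
      intro h
      apply hy₀c
      rw [mkP_mem_cbar]
      have h3 := neg_eq_self_of_two_eq_zero h A
      rw [h3] at hY₀
      have h5 : Y₀ * A = A * Y₀ := by
        calc Y₀ * A = Y₀ * A * Y₀⁻¹ * Y₀ := by group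
          _ = A * Y₀ := by rw [hY₀]
      exact h5.symm
    have htr : tr A = 0 := by
      have h3 := tr_conj Y₀ A
      rw [hY₀, tr_neg] at h3
      have h4 : 2 * tr A = 0 := by linear_combination -h3
      exact (mul_eq_zero.1 h4).resolve_left h20
    have hd : disc A ≠ 0 := by
      rw [disc, htr]
      intro h
      apply h20
      have h4 : (2 : F) * 2 = 0 := by linear_combination -h
      exact (mul_self_eq_zero.1 h4)
    have hAA : A * A = -1 := by
      apply Subtype.ext
      have h3 := cayley_hamilton A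
      rw [htr, zero_smul, zero_sub] at h3
      simpa using h3
    have hz2 : orderOf (mkP A) = 2 := by
      apply order_of_mul_self _ hz1
      rw [← map_mul, hAA]
      exact mkP_eq_one_iff.2 (Or.inr rfl)
    have hchar : ringChar F ≠ 2 := by
      intro h
      apply h20
      have h3 := ringChar.Nat.cast_ringChar (R := F)
      rw [h] at h3
      exact_mod_cast h3
    have hodd : Odd (Fintype.card F) := Nat.odd_iff.2 (FiniteField.odd_card_of_char_ne_two hchar)
    have hq' : Fintype.card F = 9 ∨ ((Fintype.card F).Prime ∧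
        ∃ k : ℕ, Fintype.card F = 2 ^ k + 1 ∨ Fintype.card F = 2 ^ k - 1) := by
      rcases hq with h | h | h
      · rw [h] at hodd
        exact absurd hodd (by decide)
      · exact Or.inl h
      · exact Or.inr h
    obtain ⟨hcyc, hcard⟩ := cbar_cyclic hA hd
    have hAc : mkP A ∈ cbar A := mkP_mem_cbar.2 rfl
    have h2c : 2 ∣ Nat.card (cbar A) := by
      have h3 := Subgroup.orderOf_dvd_natCard _ hAc
      rwa [hz2] at h3
    obtain ⟨a, ha⟩ := two_pow_card hodd hq' hcard h2c
    -- a nontrivial element of `H ∩ cbar A`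
    have hex : ∃ x ∈ H, x ≠ 1 ∧ x ≠ mkP Y₀ := by
      by_contra hcon
      push_neg at hcon
      apply hH
      refine isCyclic_of_le (L := zpowers (mkP Y₀)) inferInstance ?_
      intro x hx
      by_cases hx1 : x = 1
      · rw [hx1]; exact one_mem _
      · rw [hcon x hx hx1]; exact mem_zpowers _
    obtain ⟨x, hx, hx1, hxy⟩ := hex
    have hex2 : ∃ x' ∈ H, x' ≠ 1 ∧ x' ∈ cbar A := by
      by_cases hxc : x ∈ cbar A
      · exact ⟨x, hx, hx1, hxc⟩
      · refine ⟨(mkP Y₀)⁻¹ * x, mul_mem (inv_mem hy₀) hx, ?_, ?_⟩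
        · intro h
          apply hxy
          exact (inv_mul_eq_one.1 h).symm
        · obtain ⟨X, rfl⟩ := mkP_surjective x
          have hX := hanti _ hx hxc X rfl
          rw [← map_inv, ← map_mul, mkP_mem_cbar]
          have h3 : X * A * X⁻¹ = Y₀ * A * Y₀⁻¹ := hX.trans hY₀.symm
          have h4 : X * A = Y₀ * A * Y₀⁻¹ * X := by
            rw [← h3]; group
          calc A * (Y₀⁻¹ * X) = Y₀⁻¹ * (Y₀ * A * Y₀⁻¹ * X) := by group
            _ = Y₀⁻¹ * X * A := by rw [← h4]; group
    obtain ⟨x', hx'H, hx'1, hx'c⟩ := hex2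
    have hdvd : orderOf x' ∣ 2 ^ a := by
      rw [← ha]
      exact Subgroup.orderOf_dvd_natCard _ hx'c
    obtain ⟨e, -, he⟩ := (Nat.dvd_prime_pow Nat.prime_two).1 hdvd
    rcases e with _ | j
    · exact absurd (by simpa using he) hx'1
    · have h1 : orderOf (x' ^ (2 ^ j)) = 2 := by
        have := orderOf_pow_orderOf_div (x := x') (n := 2) (by rw [he]; positivity)
          (by rw [he]; exact dvd_pow_self _ (by omega))
        have h3 : orderOf x' / 2 = 2 ^ j := by rw [he, pow_succ]; simp
        rwa [h3] at this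
      have h5 : x' ^ (2 ^ j) = mkP A := by
        by_contra hne
        exact not_cyclic_of_two (pow_mem hx'c _) hAc h1 hz2 hne hcyc
      apply hzH
      rw [← h5]
      exact pow_mem hx'H _

end Cfsg.Agent.Lib.SelfCen.Converse
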