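import Mathlib
import Cfsg.Agent.Lib.SelfCen.Central

/-!
# Self-centralizing non-cyclic subgroups: fusion in the Sylow subgroup
-/

set_option autoImplicit false
set_option linter.unusedVariables false
set_option linter.style.haveILetI false
set_option linter.unusedSectionVars false

namespace Cfsg.Agent.Lib.SelfCen.Fusion

open Subgroup Cfsg.Agent.Lib.SelfCen.Basic Cfsg.Agent.Lib.SelfCen.Central

variable {G : Type*} [Group G] [Finite G]

/-- Elements of order at least four of the Sylow subgroup have `t` as their involution power. -/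
theorem pow_eq_t (hSC : SC G) (S : Sylow 2 G) {t : G} (ht : orderOf t = 2)
    (htc : ∀ x ∈ (S : Subgroup G), x * t = t * x) {x : G} (hx : x ∈ (S : Subgroup G)) {e : ℕ}
    (he : orderOf x = 2 ^ (e + 2)) : x ^ (2 ^ (e + 1)) = t := by
  by_contra hne
  set w := x ^ (2 ^ (e + 1)) with hw
  have hw2 : orderOf w = 2 := by
    have h1 : orderOf x / 2 = 2 ^ (e + 1) := by
      rw [he, pow_succ 2 (e + 1)]; simp
    have := orderOf_pow_orderOf_div (x := x) (n := 2) (by rw [he]; positivity)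
      (by rw [he]; exact dvd_pow_self _ (by omega))
    rwa [h1] at this
  have hwS : w ∈ (S : Subgroup G) := pow_mem hx _
  have htw : t * w = w * t := (htc w hwS).symm
  have hxw : x * w = w * x := by
    rw [hw, ← pow_succ', pow_succ]
  have hxt := htc x hx
  have h := mem_four hSC ht hw2 (Ne.symm hne) htw hxt hxw
  have h2 := sq_of_four (mul_self_of_order ht) (mul_self_of_order hw2) htw h
  have h3 : orderOf x ∣ 2 := orderOf_dvd_of_pow_eq_one (by rw [pow_two]; exact h2)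
  rw [he] at h3
  have h4 := Nat.le_of_dvd (by norm_num) h3
  have h5 : 2 ^ 2 ≤ 2 ^ (e + 2) := Nat.pow_le_pow_right (by norm_num) (by omega)
  omega

theorem not_index_two [IsSimpleGroup G] (hna : ¬ IsMulCommutative G) (K : Subgroup G) (hK : K.Normal) :
    K.index ≠ 2 := by
  intro h
  rcases hK.eq_bot_or_eq_top with rfl | rfl
  · rw [Subgroup.index_bot] at h
    haveI : Fact (Nat.Prime (Nat.card G)) := ⟨by rw [h]; exact Nat.prime_two⟩
    haveI : IsCyclic G := isCyclic_of_prime_card rfl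
    exact hna ⟨⟨fun a b => mul_comm_of_cyc a b⟩⟩
  · rw [Subgroup.index_top] at h
    omega

/-- The Klein-type lemma: an index-two subgroup of the Sylow subgroup is separated by fusion of
involutions. -/
theorem exists_fusion [IsSimpleGroup G] (hna : ¬ IsMulCommutative G) (hSC : SC G) (S : Sylow 2 G)
    {t : G} (ht : orderOf t = 2) (htc : ∀ x ∈ (S : Subgroup G), x * t = t * x)
    (hC : centralizer ({t} : Set G) ≤ S) (D : Subgroup (S : Subgroup G)) (hD : D.index = 2) :
    ∃ (a c : G) (ha : a ∈ (S : Subgroup G)) (hc : c ∈ (S : Subgroup G)), orderOf a = 2 ∧ orderOf c = 2 ∧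
      IsConj a c ∧ ¬ ((⟨a, ha⟩ : (S : Subgroup G)) ∈ D ↔ (⟨c, hc⟩ : (S : Subgroup G)) ∈ D) := by
  by_contra hcon
  push_neg at hcon
  haveI hDn : D.Normal := Subgroup.normal_of_index_eq_two hD
  have hmm := fun u v : (S : Subgroup G) => (Subgroup.mul_mem_iff_of_index_two hD (a := u) (b := v))
  have hcomm : ∀ a b : (S : Subgroup G), a * b * a⁻¹ * b⁻¹ ∈ D := by
    intro a b
    have h2 := hmm a b
    have h3 := hmm (a * b) a⁻¹
    have h4 := hmm (a * b * a⁻¹) b⁻¹
    have h5 : a⁻¹ ∈ D ↔ a ∈ D := inv_mem_iff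
    have h6 : b⁻¹ ∈ D ↔ b ∈ D := inv_mem_iff
    tauto
  obtain ⟨K, hKn, hKi, -⟩ := Cfsg.Agent.Lib.PGroup.WreathedT.exists_normal_of_fusion S D hcomm (by
    intro q g hq hg
    set q' : (S : Subgroup G) := ⟨q, hq⟩ with hq'
    obtain ⟨k, hk⟩ := (IsPGroup.iff_orderOf.1 S.isPGroup') q'
    have hko : orderOf q = 2 ^ k := by rw [← hk, hq', Subgroup.orderOf_mk]
    have hco : orderOf (g * q * g⁻¹) = orderOf q := by
      have := orderOf_injective (MulAut.conj g).toMonoidHom (MulAut.conj g).injective q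
      rw [← this]; rfl
    rcases k with _ | _ | e
    · have h1 : q = 1 := by simpa using hko
      subst h1
      have : (⟨g * 1 * g⁻¹, hg⟩ : (S : Subgroup G)) = 1 := Subtype.ext (by simp)
      rw [this]
      simp only [hq', mul_one, inv_mem_iff]
      exact one_mem D
    · have h1 : orderOf q = 2 := by simpa using hko
      have h2 := hcon q (g * q * g⁻¹) hq hg h1 (by rw [hco, h1]) (isConj_iff.2 ⟨g, rfl⟩)
      rw [hmm, inv_mem_iff]
      exact h2
    · have h1 := pow_eq_t hSC S ht htc hq hko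
      have h2 := pow_eq_t hSC S ht htc hg (hco.trans hko)
      have h3 : (g * q * g⁻¹) ^ (2 ^ (e + 1)) = g * t * g⁻¹ := by
        rw [conj_pow, h1]
      have hgt : g * t = t * g := by
        rw [h2] at h3
        have := congrArg (· * g) h3
        simpa using this.symm
      have hgS : g ∈ (S : Subgroup G) := hC (mem_cent.2 hgt)
      have h4 := hcomm q'⁻¹ ⟨g, hgS⟩
      have h5 : q'⁻¹ * (⟨g * q * g⁻¹, hg⟩ : (S : Subgroup G)) =
          q'⁻¹ * ⟨g, hgS⟩ * q'⁻¹⁻¹ * ⟨g, hgS⟩⁻¹ := by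
        have : (⟨g * q * g⁻¹, hg⟩ : (S : Subgroup G)) = ⟨g, hgS⟩ * q' * ⟨g, hgS⟩⁻¹ := Subtype.ext rfl
        rw [this]
        group
      rw [h5]
      exact h4)
  exact not_index_two hna K hKn (hKi.trans hD)

/-- The index-two subgroup `⟨u², w⟩`. -/
def dih (u w : G) (r : ℤ) (hw : w * w = 1) (hr : w * u * w⁻¹ = u ^ r) : Subgroup G where
  carrier := {x | ∃ i : ℤ, x = u ^ (2 * i) ∨ x = u ^ (2 * i) * w}
  one_mem' := ⟨0, Or.inl (by simp)⟩
  mul_mem' := by
    have hc : ∀ k : ℤ, w * u ^ k = u ^ (r * k) * w := by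
      intro k
      have h1 := conj_zpow (a := w) (b := u) (i := k)
      rw [hr, ← zpow_mul] at h1
      rw [h1]; group
    rintro a b ⟨i, rfl | rfl⟩ ⟨j, rfl | rfl⟩
    · exact ⟨i + j, Or.inl (by rw [← zpow_add]; ring_nf)⟩
    · exact ⟨i + j, Or.inr (by rw [← mul_assoc, ← zpow_add]; ring_nf)⟩
    · refine ⟨i + r * j, Or.inr ?_⟩
      rw [mul_assoc, hc, ← mul_assoc, ← zpow_add]
      ring_nf
    · refine ⟨i + r * j, Or.inl ?_⟩
      have : u ^ (2 * i) * w * (u ^ (2 * j) * w) = u ^ (2 * i) * (w * u ^ (2 * j)) * w := by group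
      rw [this, hc, mul_assoc, mul_assoc, hw, mul_one, ← zpow_add]
      ring_nf
  inv_mem' := by
    have hc : ∀ k : ℤ, w * u ^ k = u ^ (r * k) * w := by
      intro k
      have h1 := conj_zpow (a := w) (b := u) (i := k)
      rw [hr, ← zpow_mul] at h1
      rw [h1]; group
    have hwi : w⁻¹ = w := inv_eq_of_mul_eq_one_left hw
    rintro a ⟨i, rfl | rfl⟩
    · exact ⟨-i, Or.inl (by rw [← zpow_neg]; ring_nf)⟩
    · refine ⟨-(r * i), Or.inr ?_⟩
      rw [mul_inv_rev, hwi, ← zpow_neg, hc]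
      ring_nf

section dih

variable {u w : G} {r : ℤ} {hw : w * w = 1} {hr : w * u * w⁻¹ = u ^ r}

theorem mem_dih {x : G} : x ∈ dih u w r hw hr ↔ ∃ i : ℤ, x = u ^ (2 * i) ∨ x = u ^ (2 * i) * w := Iff.rfl

theorem even_of_zpow_eq (h2 : 2 ∣ orderOf u) {i j : ℤ} (h : u ^ i = u ^ (2 * j)) : Even i := by
  rw [zpow_eq_zpow_iff_modEq] at h
  have h3 : ((orderOf u : ℕ) : ℤ) ∣ 2 * j - i := h.dvd
  have h4 : (2 : ℤ) ∣ 2 * j - i := dvd_trans (by exact_mod_cast h2) h3
  rw [even_iff_two_dvd]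
  have h5 : (2 : ℤ) ∣ 2 * j := dvd_mul_right _ _
  have := dvd_sub h5 h4
  simpa using this

theorem zpow_mem_dih (h2 : 2 ∣ orderOf u) (hwu : w ∉ zpowers u) {i : ℤ} :
    u ^ i ∈ dih u w r hw hr ↔ Even i := by
  constructor
  · rintro ⟨j, h | h⟩
    · exact even_of_zpow_eq h2 h
    · exfalso
      apply hwu
      have : w = (u ^ (2 * j))⁻¹ * u ^ i := by rw [h]; group
      rw [this]
      exact mul_mem (inv_mem (zpow_mem (mem_zpowers _) _)) (zpow_mem (mem_zpowers _) _)
  · rintro ⟨j, rfl⟩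
    exact ⟨j, Or.inl (by rw [two_mul])⟩

theorem zpow_mul_mem_dih (h2 : 2 ∣ orderOf u) (hwu : w ∉ zpowers u) {i : ℤ} :
    u ^ i * w ∈ dih u w r hw hr ↔ Even i := by
  constructor
  · rintro ⟨j, h | h⟩
    · exfalso
      apply hwu
      have : w = (u ^ i)⁻¹ * u ^ (2 * j) := by rw [← h]; group
      rw [this]
      exact mul_mem (inv_mem (zpow_mem (mem_zpowers _) _)) (zpow_mem (mem_zpowers _) _)
    · exact even_of_zpow_eq h2 (mul_right_cancel h)
  · rintro ⟨j, rfl⟩
    exact ⟨j, Or.inr (by rw [two_mul])⟩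

theorem index_dih (S : Subgroup G) (huS : u ∈ S) (h2 : 2 ∣ orderOf u) (hwu : w ∉ zpowers u)
    (hrodd : Odd r) (hS : ∀ x ∈ S, (∃ i : ℤ, x = u ^ i) ∨ ∃ i : ℤ, x = u ^ i * w) :
    ((dih u w r hw hr).subgroupOf S).index = 2 := by
  rw [Subgroup.index_eq_two_iff]
  refine ⟨⟨u, huS⟩, fun x => ?_⟩
  simp only [Subgroup.mem_subgroupOf, Subgroup.coe_mul]
  have hc : w * u = u ^ r * w := by
    calc w * u = (w * u * w⁻¹) * w := by group
      _ = _ := by rw [hr]
  rcases hS x x.2 with ⟨i, hi⟩ | ⟨i, hi⟩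
  · rw [hi]
    have e : u ^ i * u = u ^ (i + 1) := by rw [zpow_add, zpow_one]
    rw [e, zpow_mem_dih h2 hwu, zpow_mem_dih h2 hwu]
    rcases Int.even_or_odd i with h | h
    · exact Or.inr ⟨h, by simpa using (Even.add_one h)⟩
    · exact Or.inl ⟨h.add_one, by simpa using h⟩
  · rw [hi]
    have e : u ^ i * w * u = u ^ (i + r) * w := by
      rw [mul_assoc, hc, ← mul_assoc, ← zpow_add]
    rw [e, zpow_mul_mem_dih h2 hwu, zpow_mul_mem_dih h2 hwu]
    rcases Int.even_or_odd i with h | h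
    · exact Or.inr ⟨h, by simpa using (h.add_odd hrodd)⟩
    · exact Or.inl ⟨h.add_odd hrodd, by simpa using h⟩

end dih

end Cfsg.Agent.Lib.SelfCen.Fusion
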