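import Mathlib
import Cfsg.Agent.Lib.SelfCen.Fusion

/-!
# Self-centralizing non-cyclic subgroups: the Sylow `2`-subgroups are dihedral (or Klein)
-/

set_option autoImplicit false
set_option linter.unusedVariables false
set_option linter.style.haveILetI false
set_option linter.unusedSectionVars false

namespace Cfsg.Agent.Lib.SelfCen.Struct

open Subgroup Cfsg.Agent.Lib.SelfCen.Basic Cfsg.Agent.Lib.SelfCen.Central
  Cfsg.Agent.Lib.SelfCen.Fusion

variable {G : Type*} [Group G] [Finite G]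

/-- Dihedral data for a Sylow `2`-subgroup (including the Klein four-group, `m = 1`). -/
structure DD (S : Sylow 2 G) (t u b : G) (m : ℕ) : Prop where
  hm : 1 ≤ m
  ht : orderOf t = 2
  htS : t ∈ (S : Subgroup G)
  htc : ∀ x ∈ (S : Subgroup G), x * t = t * x
  huS : u ∈ (S : Subgroup G)
  hbS : b ∈ (S : Subgroup G)
  hu : orderOf u = 2 ^ m
  hb : orderOf b = 2
  hbu : b * u * b⁻¹ = u⁻¹
  hbK : b ∉ zpowers u
  hz : u ^ (2 ^ (m - 1)) = t
  hcard : Nat.card (S : Subgroup G) = 2 ^ (m + 1)
  hC : centralizer ({t} : Set G) ≤ S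

/-- Every element of `S` is a power of `u` or a power of `u` times `w`. -/
theorem exists_pow_form (S : Subgroup G) {u w : G} (huS : u ∈ S) (hwS : w ∈ S) (hwu : w ∉ zpowers u)
    (hcard : Nat.card S = 2 * Nat.card (zpowers u)) {x : G} (hx : x ∈ S) :
    (∃ i : ℤ, x = u ^ i) ∨ ∃ i : ℤ, x = u ^ i * w := by
  have hle : zpowers u ≤ S := (zpowers_le).2 huS
  have hidx : ((zpowers u).subgroupOf S).index = 2 := by
    have h1 := Subgroup.card_mul_index ((zpowers u).subgroupOf S)
    have h2 : Nat.card ↥((zpowers u).subgroupOf S) = Nat.card (zpowers u) :=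
      Nat.card_congr (Subgroup.subgroupOfEquivOfLe hle).toEquiv
    rw [h2, hcard, mul_comm 2] at h1
    exact Nat.eq_of_mul_eq_mul_left Nat.card_pos h1
  by_cases hxK : x ∈ zpowers u
  · exact Or.inl (mem_zpowers_iff.1 hxK |>.imp fun i h => h.symm)
  · right
    have h1 := Subgroup.mul_mem_iff_of_index_two hidx (a := ⟨x, hx⟩) (b := (⟨w, hwS⟩ : S)⁻¹)
    have h2 : (⟨x, hx⟩ : S) ∉ (zpowers u).subgroupOf S := hxK
    have h3 : (⟨w, hwS⟩ : S)⁻¹ ∉ (zpowers u).subgroupOf S := by
      rw [inv_mem_iff]; exact hwu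
    have h4 : ((⟨x, hx⟩ : S) * (⟨w, hwS⟩ : S)⁻¹) ∈ (zpowers u).subgroupOf S := h1.2 (by tauto)
    have h5 : x * w⁻¹ ∈ zpowers u := h4
    obtain ⟨i, hi⟩ := mem_zpowers_iff.1 h5
    exact ⟨i, by rw [hi]; group⟩

/-- The involution of a cyclic group is unique. -/
theorem inv_unique {u x z : G} (hx : x ∈ zpowers u) (hz : z ∈ zpowers u) (hx2 : orderOf x = 2)
    (hz2 : orderOf z = 2) : x = z := by
  by_contra hne
  exact not_cyclic_of_two hx hz hx2 hz2 hne inferInstance

theorem class_eq (hSC : SC G) (S : Sylow 2 G) {t b : G} (ht : orderOf t = 2)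
    (htS : t ∈ (S : Subgroup G)) (htc : ∀ x ∈ (S : Subgroup G), x * t = t * x) (hb : orderOf b = 2)
    (hbS : b ∈ (S : Subgroup G)) (hne : t ≠ b) {n : ℕ} (hn : Nat.card (S : Subgroup G) = 2 ^ n) :
    2 ≤ n ∧ Group.nilpotencyClass (S : Subgroup G) = n - 1 := by
  haveI : Fact (Nat.Prime 2) := ⟨Nat.prime_two⟩
  have htb : t * b = b * t := (htc b hbS).symm
  set V := kl t b (mul_self_of_order ht) (mul_self_of_order hb) htb with hV
  have hVS : V ≤ S := by
    intro x hx
    rcases hx with rfl | rfl | rfl | rfl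
    · exact one_mem _
    · exact htS
    · exact hbS
    · exact mul_mem htS hbS
  set A : Subgroup (S : Subgroup G) := V.subgroupOf S with hA
  have hAcard : Nat.card A = 2 ^ 2 := by
    rw [hA, Nat.card_congr (Subgroup.subgroupOfEquivOfLe hVS).toEquiv]
    exact card_kl ht hb hne htb
  have hAC : centralizer (A : Set (S : Subgroup G)) ≤ A := by
    intro x hx
    have h1 : (⟨t, htS⟩ : (S : Subgroup G)) ∈ A := Or.inr (Or.inl rfl)
    have h2 : (⟨b, hbS⟩ : (S : Subgroup G)) ∈ A := Or.inr (Or.inr (Or.inl rfl))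
    have e1 := (Subgroup.mem_centralizer_iff.1 hx) _ h1
    have e2 := (Subgroup.mem_centralizer_iff.1 hx) _ h2
    have e1' : (x : G) * t = t * x := (congrArg Subtype.val e1).symm
    have e2' : (x : G) * b = b * x := (congrArg Subtype.val e2).symm
    exact mem_four hSC ht hb hne htb e1' e2'
  refine ⟨?_, Cfsg.Agent.Lib.PGroup.MaximalClass.class_of_selfCentralizing_sq (p := 2) n _ hn A hAcard hAC⟩
  have h3 : 2 ^ 2 ∣ 2 ^ n := by
    rw [← hAcard, ← hn]
    exact Subgroup.card_subgroup_dvd_card A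
  exact (Nat.pow_dvd_pow_iff_le_right (by norm_num)).1 h3

/-- The Klein four case. -/
theorem dd_of_four (hSC : SC G) (S : Sylow 2 G) {t b : G} (ht : orderOf t = 2)
    (htS : t ∈ (S : Subgroup G)) (htc : ∀ x ∈ (S : Subgroup G), x * t = t * x) (hb : orderOf b = 2)
    (hbS : b ∈ (S : Subgroup G)) (hne : t ≠ b) (hn : Nat.card (S : Subgroup G) = 2 ^ 2) :
    DD S t t b 1 := by
  have hbK : b ∉ zpowers t := fun h => hne (inv_unique h (mem_zpowers t) hb ht).symm
  refine ⟨le_rfl, ht, htS, htc, htS, hbS, by simpa using ht, hb, ?_, hbK, by simp, hn, ?_⟩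
  · rw [inv_of_order ht, inv_of_order hb]
    rw [htc b hbS, mul_assoc, mul_self_of_order hb, mul_one]
  · refine centralizer_le hSC S ht htS htc hb hbS hne (zpowers t) ((zpowers_le).2 htS) ?_ ?_
    · rw [hn, Nat.card_zpowers, ht]; norm_num
    · intro x hx hx2
      exact inv_unique hx (mem_zpowers t) hx2 ht

theorem dd_of_MC [IsSimpleGroup G] (hna : ¬ IsMulCommutative G) (hSC : SC G) (S : Sylow 2 G) {t b₁ : G}
    (ht : orderOf t = 2)
    (htS : t ∈ (S : Subgroup G)) (htc : ∀ x ∈ (S : Subgroup G), x * t = t * x) (hb₁ : orderOf b₁ = 2)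
    (hb₁S : b₁ ∈ (S : Subgroup G)) (hne : t ≠ b₁) {m : ℕ} {u₀ b₀ : (S : Subgroup G)}
    (h : Cfsg.Agent.Lib.PGroup.Taussky.MC m u₀ b₀) :
    DD S t (u₀ : G) (b₀ : G) m := by
  classical
  haveI : Fact (Nat.Prime 2) := ⟨Nat.prime_two⟩
  have hm := h.hm
  have hu₀ : orderOf (u₀ : G) = 2 ^ m := by rw [Subgroup.orderOf_coe]; exact h.sc.hu
  -- identify `t`
  have hz2 : orderOf (u₀ ^ 2 ^ (m - 1)) = 2 := by
    have := h.orderOf_u_pow (i := m - 1) (by omega)
    rw [this]
    have : m - (m - 1) = 1 := by omega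
    rw [this, pow_one]
  have ht' : (⟨t, htS⟩ : (S : Subgroup G)) ∈ center (S : Subgroup G) := by
    rw [Subgroup.mem_center_iff]
    intro g
    exact Subtype.ext (htc g g.2)
  rw [h.center_eq] at ht'
  have ht'2 : orderOf (⟨t, htS⟩ : (S : Subgroup G)) = 2 := by rw [Subgroup.orderOf_mk]; exact ht
  have hzt : (⟨t, htS⟩ : (S : Subgroup G)) = u₀ ^ 2 ^ (m - 1) :=
    inv_unique ht' (mem_zpowers _) ht'2 hz2
  have hzt' : ((u₀ : G)) ^ 2 ^ (m - 1) = t := by
    have := congrArg Subtype.val hzt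
    simpa using this.symm
  set u : G := (u₀ : G) with hu
  set b : G := (b₀ : G) with hb
  have huS : u ∈ (S : Subgroup G) := u₀.2
  have hbS : b ∈ (S : Subgroup G) := b₀.2
  have htK : t ∈ zpowers u := by
    rw [← hzt']
    exact pow_mem (mem_zpowers _) _
  have hKinv : ∀ x ∈ zpowers u, orderOf x = 2 → x = t := fun x hx hx2 => inv_unique hx htK hx2 ht
  have hcS : Nat.card (S : Subgroup G) = 2 * Nat.card (zpowers u) := by
    rw [h.hcard, Nat.card_zpowers, hu₀, pow_succ, mul_comm]
  have hbK : b ∉ zpowers u := by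
    intro hb'
    apply h.hb
    obtain ⟨i, hi⟩ := mem_zpowers_iff.1 hb'
    refine mem_zpowers_iff.2 ⟨i, Subtype.ext ?_⟩
    simpa using hi
  have hC := centralizer_le hSC S ht htS htc hb₁ hb₁S hne (zpowers u) ((zpowers_le).2 huS) hcS hKinv
  have hform := h.hform
  rcases hform with ⟨h1, h2 | h2⟩ | ⟨hm3, h1, h2⟩
  · -- dihedral
    have h1' : b * u * b⁻¹ = u⁻¹ := by
      have := congrArg Subtype.val h1
      simpa using this
    have h2' : b * b = 1 := by
      have := congrArg Subtype.val h2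
      simpa [pow_two] using this
    have hb1 : b ≠ 1 := by
      rintro h0
      apply hbK
      rw [h0]; exact one_mem _
    refine ⟨by omega, ht, htS, htc, huS, hbS, hu₀, order_of_mul_self h2' hb1, h1', hbK, hzt', h.hcard, hC⟩
  · -- generalized quaternion
    exfalso
    have h1' : b * u * b⁻¹ = u⁻¹ := by
      have := congrArg Subtype.val h1
      simpa using this
    have h2' : b * b = t := by
      have := congrArg Subtype.val h2
      rw [← hzt']
      simpa [pow_two] using this
    rcases exists_pow_form S huS hbS hbK hcS hb₁S with ⟨i, hi⟩ | ⟨i, hi⟩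
    · exact hne (hKinv b₁ (hi ▸ zpow_mem (mem_zpowers _) _) hb₁).symm
    · have h3 := mul_self_of_order hb₁
      rw [hi] at h3
      have h4 : b * u ^ i * b⁻¹ = (u ^ i)⁻¹ := by
        rw [← conj_zpow, h1', inv_zpow]
      have h5 : u ^ i * b * (u ^ i * b) = u ^ i * (b * u ^ i * b⁻¹) * (b * b) := by group
      rw [h5, h4, h2'] at h3
      apply ne_one_of_order ht
      simpa using h3
  · -- semidihedral
    exfalso
    have h1' : b * u * b⁻¹ = u ^ (((2 ^ (m - 1) - 1 : ℕ) : ℤ)) := by
      have := congrArg Subtype.val h1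
      rw [zpow_natCast]
      simpa using this
    have h2' : b * b = 1 := by
      have := congrArg Subtype.val h2
      simpa [pow_two] using this
    set r : ℤ := ((2 ^ (m - 1) - 1 : ℕ) : ℤ) with hr
    have hr1 : 1 + r = 2 ^ (m - 1) := by
      have : 1 ≤ 2 ^ (m - 1) := Nat.one_le_two_pow
      rw [hr]; push_cast [this]; ring
    have h2u : 2 ∣ orderOf u := by
      rw [hu₀]; exact dvd_pow_self _ (by omega)
    have hev : Even ((2 : ℤ) ^ (m - 1)) := by
      rw [even_iff_two_dvd]; exact dvd_pow_self _ (by omega)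
    have hrodd : Odd r := by
      have : Even (1 + r) := by rw [hr1]; exact hev
      have h3 := Int.even_add.1 this
      rcases Int.even_or_odd r with h4 | h4
      · exact absurd (h3.2 h4) (by decide)
      · exact h4
    have hidx := index_dih (hw := h2') (hr := h1') S huS h2u hbK hrodd
      (fun x hx => exists_pow_form S huS hbS hbK hcS hx)
    obtain ⟨a, c, ha, hc, ha2, hc2, -, hac⟩ := exists_fusion hna hSC S ht htc hC _ hidx
    have hall : ∀ x (hx : x ∈ (S : Subgroup G)), orderOf x = 2 → x ∈ dih u b r h2' h1' := by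
      intro x hx hx2
      rcases exists_pow_form S huS hbS hbK hcS hx with ⟨i, hi⟩ | ⟨i, hi⟩
      · have h3 := hKinv x (hi ▸ zpow_mem (mem_zpowers _) _) hx2
        rw [h3, ← hzt', ← zpow_natCast]
        rw [zpow_mem_dih h2u hbK]
        push_cast
        exact hev
      · rw [hi, zpow_mul_mem_dih h2u hbK]
        have h3 := mul_self_of_order hx2
        rw [hi] at h3
        have h4 : b * u ^ i * b⁻¹ = u ^ (r * i) := by
          rw [← conj_zpow, h1', zpow_mul]
        have h5 : u ^ i * b * (u ^ i * b) = u ^ i * (b * u ^ i * b⁻¹) * (b * b) := by group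
        rw [h5, h4, h2', mul_one, ← zpow_add] at h3
        have h6 : i + r * i = i * 2 ^ (m - 1) := by rw [← hr1]; ring
        rw [h6] at h3
        have h7 : ((2 ^ m : ℕ) : ℤ) ∣ i * 2 ^ (m - 1) := by
          rw [← hu₀]; exact orderOf_dvd_iff_zpow_eq_one.2 h3
        have h8 : (2 : ℤ) ^ m = 2 * 2 ^ (m - 1) := by
          rw [← pow_succ']; congr 1; omega
        push_cast at h7
        rw [h8] at h7
        have h9 := (mul_dvd_mul_iff_right (pow_ne_zero _ two_ne_zero)).1 h7
        exact even_iff_two_dvd.2 h9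
    exact hac ⟨fun _ => hall c hc hc2, fun _ => hall a ha ha2⟩

end Cfsg.Agent.Lib.SelfCen.Struct
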