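import Mathlib
import Cfsg.Agent.Lib.SelfCen.Struct
import Cfsg.Agent.Lib.SelfCen.BSWSimple
import Cfsg.Agent.Lib.Components.DihSylow

/-!
# Self-centralizing non-cyclic subgroups: all involutions are conjugate; the group is `PSL₂`
-/

set_option autoImplicit false
set_option linter.unusedVariables false
set_option linter.style.haveILetI false
set_option linter.unusedSectionVars false

namespace Cfsg.Agent.Lib.SelfCen.DihConj

open Subgroup Cfsg.Agent.Lib.SelfCen.Basic Cfsg.Agent.Lib.SelfCen.Central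
  Cfsg.Agent.Lib.SelfCen.Fusion Cfsg.Agent.Lib.SelfCen.Struct

variable {G : Type*} [Group G] [Finite G]

theorem exists_DD [IsSimpleGroup G] (hna : ¬ IsMulCommutative G) (hSC : SC G) (S : Sylow 2 G)
    (h2 : 2 ∣ Nat.card G) : ∃ (t u b : G) (m : ℕ), DD S t u b m := by
  haveI : Fact (Nat.Prime 2) := ⟨Nat.prime_two⟩
  obtain ⟨t, ht, htS, htc⟩ := exists_central_inv S h2
  obtain ⟨g, hg, hgne⟩ := exists_conj_inv hna S h2 ht htS
  have hb₁ : orderOf (g * t * g⁻¹) = 2 := by
    have := orderOf_injective (MulAut.conj g).toMonoidHom (MulAut.conj g).injective t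
    rw [← ht, ← this]; rfl
  obtain ⟨n, hn⟩ := IsPGroup.iff_card.1 S.isPGroup'
  obtain ⟨hn2, hcl⟩ := class_eq hSC S ht htS htc hb₁ hg hgne.symm hn
  rcases eq_or_lt_of_le hn2 with rfl | h3
  · exact ⟨t, t, _, 1, dd_of_four hSC S ht htS htc hb₁ hg hgne.symm hn⟩
  · have hlcs := Cfsg.Agent.Lib.PGroup.Taussky.lcs_ne_bot_of_class (n := n) h3 hn hcl
    have hn' : Nat.card (S : Subgroup G) = 2 ^ (n - 1 + 1) := by
      rw [hn]; congr 1; omega
    obtain ⟨u₀, b₀, h⟩ := Cfsg.Agent.Lib.PGroup.Taussky.MC_of_lcs_ne_bot (m := n - 1) (by omega) hn' hlcs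
    exact ⟨t, u₀, b₀, n - 1, dd_of_MC hna hSC S ht htS htc hb₁ hg hgne.symm h⟩

section classes

variable {S : Sylow 2 G} {t u b : G} {m : ℕ}

theorem zpow_conj {w : G} (hwu : w * u * w⁻¹ = u⁻¹) (k : ℤ) : w * u ^ k = u ^ (-k) * w := by
  have h1 := conj_zpow (a := w) (b := u) (i := k)
  rw [hwu, inv_zpow, ← zpow_neg] at h1
  rw [h1]; group

/-- Every involution of the Sylow subgroup is `t`, or conjugate to `w` (in `dih`) or `u w` (outside). -/
theorem classes (hD : DD S t u b m) {w : G} (hwS : w ∈ (S : Subgroup G)) (hw : w * w = 1)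
    (hwu : w * u * w⁻¹ = u⁻¹) (hr : w * u * w⁻¹ = u ^ (-1 : ℤ)) (hwK : w ∉ zpowers u) {a : G}
    (ha : a ∈ (S : Subgroup G)) (ha2 : orderOf a = 2) :
    a = t ∨ (a ∈ dih u w (-1) hw hr ∧ IsConj a w) ∨ (a ∉ dih u w (-1) hw hr ∧ IsConj a (u * w)) := by
  have h2u : 2 ∣ orderOf u := by
    rw [hD.hu]; exact dvd_pow_self _ (by have := hD.hm; omega)
  have hcS : Nat.card (S : Subgroup G) = 2 * Nat.card (zpowers u) := by
    rw [hD.hcard, Nat.card_zpowers, hD.hu, pow_succ, mul_comm]
  have htK : t ∈ zpowers u := by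
    rw [← hD.hz]
    exact pow_mem (mem_zpowers _) _
  rcases exists_pow_form S hD.huS hwS hwK hcS ha with ⟨i, hi⟩ | ⟨i, hi⟩
  · left
    exact inv_unique (hi ▸ zpow_mem (mem_zpowers _) _) htK ha2 hD.ht
  · right
    rcases Int.even_or_odd' i with ⟨j, rfl | rfl⟩
    · left
      refine ⟨by rw [hi]; exact (zpow_mul_mem_dih h2u hwK).2 (even_two_mul j), ?_⟩
      refine IsConj.symm (isConj_iff.2 ⟨u ^ j, ?_⟩)
      rw [hi, mul_assoc, ← zpow_neg, zpow_conj hwu, ← mul_assoc, ← zpow_add]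
      congr 2
      ring
    · right
      refine ⟨by
        rw [hi, zpow_mul_mem_dih h2u hwK, Int.not_even_iff_odd]
        exact odd_two_mul_add_one j, ?_⟩
      refine IsConj.symm (isConj_iff.2 ⟨u ^ j, ?_⟩)
      rw [hi, mul_assoc, mul_assoc, ← zpow_neg, zpow_conj hwu, ← mul_assoc u, ← mul_assoc, ← mul_assoc]
      have : u ^ j * u * u ^ (- -j) = u ^ (2 * j + 1) := by
        rw [neg_neg, mul_assoc, ← zpow_one_add, ← zpow_add]
        congr 1
        ring
      rw [this]

theorem clause [IsSimpleGroup G] (hna : ¬ IsMulCommutative G) (hSC : SC G) (hD : DD S t u b m) {w : G}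
    (hwS : w ∈ (S : Subgroup G)) (hw : w * w = 1) (hwu : w * u * w⁻¹ = u⁻¹)
    (hr : w * u * w⁻¹ = u ^ (-1 : ℤ)) (hwK : w ∉ zpowers u) :
    (t ∈ dih u w (-1) hw hr → IsConj t (u * w) ∨ IsConj w (u * w)) ∧
      (t ∉ dih u w (-1) hw hr → IsConj t w ∨ IsConj w (u * w)) := by
  have h2u : 2 ∣ orderOf u := by
    rw [hD.hu]; exact dvd_pow_self _ (by have := hD.hm; omega)
  have hcS : Nat.card (S : Subgroup G) = 2 * Nat.card (zpowers u) := by
    rw [hD.hcard, Nat.card_zpowers, hD.hu, pow_succ, mul_comm]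
  have hidx := index_dih (hw := hw) (hr := hr) S hD.huS h2u hwK (r := -1) (by decide)
    (fun x hx => exists_pow_form S hD.huS hwS hwK hcS hx)
  obtain ⟨a, c, ha, hc, ha2, hc2, hac, hne⟩ := exists_fusion hna hSC S hD.ht hD.htc hD.hC _ hidx
  have hne' : ¬ (a ∈ dih u w (-1) hw hr ↔ c ∈ dih u w (-1) hw hr) := hne
  have h1 := classes hD hwS hw hwu hr hwK ha ha2
  have h2 := classes hD hwS hw hwu hr hwK hc hc2
  constructor
  · intro htd
    rcases h1 with rfl | ⟨h1, h1'⟩ | ⟨h1, h1'⟩ <;> rcases h2 with rfl | ⟨h2, h2'⟩ | ⟨h2, h2'⟩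
    · tauto
    · tauto
    · exact Or.inl (hac.trans h2')
    · tauto
    · tauto
    · exact Or.inr (h1'.symm.trans (hac.trans h2'))
    · exact Or.inl (hac.symm.trans h1')
    · exact Or.inr (h2'.symm.trans (hac.symm.trans h1'))
    · tauto
  · intro htd
    rcases h1 with rfl | ⟨h1, h1'⟩ | ⟨h1, h1'⟩ <;> rcases h2 with rfl | ⟨h2, h2'⟩ | ⟨h2, h2'⟩
    · tauto
    · exact Or.inl (hac.trans h2')
    · tauto
    · exact Or.inl (hac.symm.trans h1')
    · tauto
    · exact Or.inr (h1'.symm.trans (hac.trans h2'))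
    · tauto
    · exact Or.inr (h2'.symm.trans (hac.symm.trans h1'))
    · tauto

/-- All involutions of `G` are conjugate to `t`. -/
theorem all_conj [IsSimpleGroup G] (hna : ¬ IsMulCommutative G) (hSC : SC G) (hD : DD S t u b m)
    (h2 : 2 ∣ Nat.card G) {a : G} (ha : orderOf a = 2) : IsConj a t := by
  classical
  have hm := hD.hm
  have h2u : 2 ∣ orderOf u := by
    rw [hD.hu]; exact dvd_pow_self _ (by omega)
  have hb' := mul_self_of_order hD.hb
  have hbu := hD.hbu
  have hrb : b * u * b⁻¹ = u ^ (-1 : ℤ) := by rw [hbu, zpow_neg_one]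
  -- the second reflection
  have hw₁S : u * b ∈ (S : Subgroup G) := mul_mem hD.huS hD.hbS
  have hw₁ : (u * b) * (u * b) = 1 := by
    have : (u * b) * (u * b) = u * (b * u * b⁻¹) * (b * b) := by group
    rw [this, hbu, hb']; group
  have hw₁u : (u * b) * u * (u * b)⁻¹ = u⁻¹ := by
    have : (u * b) * u * (u * b)⁻¹ = u * (b * u * b⁻¹) * u⁻¹ := by group
    rw [this, hbu]; group
  have hrw₁ : (u * b) * u * (u * b)⁻¹ = u ^ (-1 : ℤ) := by rw [hw₁u, zpow_neg_one]
  have hw₁K : u * b ∉ zpowers u := by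
    intro h
    apply hD.hbK
    have : b = u⁻¹ * (u * b) := by group
    rw [this]
    exact mul_mem (inv_mem (mem_zpowers _)) h
  have hb2 : IsConj b (u * (u * b)) := by
    refine isConj_iff.2 ⟨u, ?_⟩
    have e : b * u⁻¹ = u * b := by
      have h1 : b * u⁻¹ * b⁻¹ = u := by
        have := conj_zpow (a := b) (b := u) (i := -1)
        rw [zpow_neg_one, zpow_neg_one, hbu, inv_inv] at this
        exact this.symm
      calc b * u⁻¹ = (b * u⁻¹ * b⁻¹) * b := by group
        _ = _ := by rw [h1]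
    rw [mul_assoc, e]
  -- the clauses
  obtain ⟨c₁, c₂⟩ := clause hna hSC hD hD.hbS hb' hbu hrb hD.hbK
  obtain ⟨c₃, c₄⟩ := clause hna hSC hD hw₁S hw₁ hw₁u hrw₁ hw₁K
  have A1 : (IsConj t (u * b) ∨ IsConj b (u * b)) ∧ (IsConj t b ∨ IsConj b (u * b)) := by
    by_cases htd : t ∈ dih u b (-1) hb' hrb
    · have htd' : t ∈ dih u (u * b) (-1) hw₁ hrw₁ := by
        have e : t = u ^ ((2 ^ (m - 1) : ℕ) : ℤ) := by rw [zpow_natCast]; exact hD.hz.symm
        rw [e, zpow_mem_dih h2u hD.hbK] at htd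
        rw [e, zpow_mem_dih h2u hw₁K]
        exact htd
      refine ⟨c₁ htd, ?_⟩
      rcases c₃ htd' with h | h
      · exact Or.inl (h.trans hb2.symm)
      · exact Or.inr (h.trans hb2.symm).symm
    · have htd' : t ∉ dih u (u * b) (-1) hw₁ hrw₁ := by
        have e : t = u ^ ((2 ^ (m - 1) : ℕ) : ℤ) := by rw [zpow_natCast]; exact hD.hz.symm
        rw [e, zpow_mem_dih h2u hD.hbK] at htd
        rw [e, zpow_mem_dih h2u hw₁K]
        exact htd
      refine ⟨?_, c₂ htd⟩
      rcases c₄ htd' with h | h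
      · exact Or.inl h
      · exact Or.inr (h.trans hb2.symm).symm
  obtain ⟨A2, A3⟩ := A1
  have A4 : IsConj t b ∨ IsConj t (u * b) := by
    obtain ⟨g, hg, hgne⟩ := exists_conj_inv hna S h2 hD.ht hD.htS
    have hb₁ : orderOf (g * t * g⁻¹) = 2 := by
      have := orderOf_injective (MulAut.conj g).toMonoidHom (MulAut.conj g).injective t
      rw [← hD.ht, ← this]; rfl
    have hc : IsConj t (g * t * g⁻¹) := isConj_iff.2 ⟨g, rfl⟩
    rcases classes hD hD.hbS hb' hbu hrb hD.hbK hg hb₁ with h | ⟨-, h⟩ | ⟨-, h⟩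
    · exact absurd h hgne
    · exact Or.inl (hc.trans h)
    · exact Or.inr (hc.trans h)
  have A5 : IsConj t b ∧ IsConj t (u * b) := by
    rcases A4 with h | h
    · refine ⟨h, ?_⟩
      rcases A2 with h' | h'
      · exact h'
      · exact h.trans h'
    · refine ⟨?_, h⟩
      rcases A3 with h' | h'
      · exact h'
      · exact h.trans h'.symm
  obtain ⟨g, hg⟩ := Cfsg.Agent.Lib.Components.DihSylow.conj_elt_into_sylow S ha
  have hga : IsConj a (g * a * g⁻¹) := isConj_iff.2 ⟨g, rfl⟩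
  have hga2 : orderOf (g * a * g⁻¹) = 2 := by
    have := orderOf_injective (MulAut.conj g).toMonoidHom (MulAut.conj g).injective a
    rw [← ha, ← this]; rfl
  rcases classes hD hD.hbS hb' hbu hrb hD.hbK hg hga2 with h | ⟨-, h⟩ | ⟨-, h⟩
  · rw [h] at hga; exact hga
  · exact hga.trans (h.trans A5.1.symm)
  · exact hga.trans (h.trans A5.2.symm)

/-- The dihedral data yields `PSL₂`. -/
theorem psl_of_DD [IsSimpleGroup G] (hna : ¬ IsMulCommutative G) (hSC : SC G) (hD : DD S t u b m)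
    (h2 : 2 ∣ Nat.card G) :
    ∃ (F : Type) (_ : Field F) (_ : Fintype F), ringChar F ≠ 2 ∧
      Nonempty (G ≃* Matrix.ProjectiveSpecialLinearGroup (Fin 2) F) := by
  classical
  have hm := hD.hm
  have htK : t ∈ zpowers u := by
    rw [← hD.hz]
    exact pow_mem (mem_zpowers _) _
  have hKinv : ∀ x ∈ zpowers u, orderOf x = 2 → x = t := fun x hx hx2 => inv_unique hx htK hx2 hD.ht
  have hcS : Nat.card (S : Subgroup G) = 2 * Nat.card (zpowers u) := by
    rw [hD.hcard, Nat.card_zpowers, hD.hu, pow_succ, mul_comm]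
  have hSC' : ∀ x ∈ (S : Subgroup G), x ∈ centralizer ({t} : Set G) := fun x hx => mem_cent.2 (hD.htc x hx)
  have hbc : ∀ x ∈ zpowers u, b * x * b⁻¹ = x⁻¹ := by
    intro x hx
    obtain ⟨i, rfl⟩ := mem_zpowers_iff.1 hx
    rw [← conj_zpow, hD.hbu, inv_zpow]
  refine Cfsg.Agent.Lib.SelfCen.BSWSimple.psl_of_bsw hna t hD.ht (zpowers u)
    ⟨⟨fun a c => mul_comm_of_cyc a c⟩⟩ ((zpowers_le).2 (hSC' u hD.huS)) htK b hD.hb (hSC' b hD.hbS)
    hD.hbK ?_ ?_ hbc ?_ (fun x y hx hy => (all_conj hna hSC hD h2 hx).trans (all_conj hna hSC hD h2 hy).symm)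
  · apply le_antisymm
    · exact sup_le ((zpowers_le).2 (hSC' u hD.huS)) ((zpowers_le).2 (hSC' b hD.hbS))
    · intro x hx
      rcases exists_pow_form S hD.huS hD.hbS hD.hbK hcS (hD.hC hx) with ⟨i, rfl⟩ | ⟨i, rfl⟩
      · exact (le_sup_left : zpowers u ≤ _) (zpow_mem (mem_zpowers _) _)
      · exact mul_mem ((le_sup_left : zpowers u ≤ _) (zpow_mem (mem_zpowers _) _))
          ((le_sup_right : zpowers b ≤ _) (mem_zpowers _))
  · apply le_antisymm
    · rintro x ⟨hx1, hx2⟩
      have hxb : x * b = b * x := mem_cent.1 hx2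
      have h1 := hbc x hx1
      have h2 : b * x * b⁻¹ = x := by rw [← hxb]; group
      rw [h2] at h1
      have h3 : x * x = 1 := by
        calc x * x = x⁻¹ * x := by rw [← h1]
          _ = 1 := by group
      by_cases hx0 : x = 1
      · rw [hx0]; exact one_mem _
      · rw [hKinv x hx1 (order_of_mul_self h3 hx0)]
        exact mem_zpowers _
    · rw [zpowers_le]
      refine ⟨htK, mem_cent.2 ?_⟩
      exact (hD.htc b hD.hbS).symm
  · intro g hg
    rw [eq_bot_iff]
    rintro x ⟨hx1, y, hy, hxy⟩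
    by_contra hx
    rw [Subgroup.mem_bot] at hx
    apply hg
    have hxy' : g * y * g⁻¹ = x := hxy
    have hord : orderOf y = orderOf x := by
      rw [← hxy']
      have := orderOf_injective (MulAut.conj g).toMonoidHom (MulAut.conj g).injective y
      rw [← this]; rfl
    have hdvd : orderOf x ∣ 2 ^ m := by
      rw [← hD.hu]
      obtain ⟨i, rfl⟩ := mem_zpowers_iff.1 hx1
      exact orderOf_dvd_of_pow_eq_one (by
        rw [← zpow_natCast, zpow_comm, zpow_natCast, pow_orderOf_eq_one, one_zpow])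
    obtain ⟨e, -, he⟩ := (Nat.dvd_prime_pow Nat.prime_two).1 hdvd
    rcases e with _ | e
    · exact absurd (by simpa using he) hx
    · have h1 : orderOf (x ^ (2 ^ e)) = 2 := by
        have := orderOf_pow_orderOf_div (x := x) (n := 2) (by rw [he]; positivity)
          (by rw [he]; exact dvd_pow_self _ (by omega))
        have h3 : orderOf x / 2 = 2 ^ e := by rw [he, pow_succ]; simp
        rwa [h3] at this
      have h4 : orderOf (y ^ (2 ^ e)) = 2 := by
        have := orderOf_pow_orderOf_div (x := y) (n := 2) (by rw [hord, he]; positivity)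
          (by rw [hord, he]; exact dvd_pow_self _ (by omega))
        have h3 : orderOf y / 2 = 2 ^ e := by rw [hord, he, pow_succ]; simp
        rwa [h3] at this
      have h5 := hKinv _ (pow_mem hx1 _) h1
      have h6 := hKinv _ (pow_mem hy _) h4
      have h7 : g * t * g⁻¹ = t := by
        rw [← h6, ← conj_pow, hxy', h5, h6]
      refine mem_cent.2 ?_
      calc g * t = g * t * g⁻¹ * g := by group
        _ = t * g := by rw [h7]

end classes

end Cfsg.Agent.Lib.SelfCen.DihConj
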