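import Mathlib
import Cfsg.Agent.Lib.SelfCen.Basic
import Cfsg.Agent.Lib.SelfCen.ListNum
import Cfsg.Agent.Lib.PSL2.DihedralMax

/-!
# Self-centralizing non-cyclic subgroups: the list of `q`
-/

set_option autoImplicit false
set_option linter.unusedVariables false
set_option linter.style.haveILetI false
set_option linter.unusedSectionVars false

namespace Cfsg.Agent.Lib.SelfCen.ListSC

open Subgroup Cfsg.Agent.Lib.SelfCen.Basic
open scoped MatrixGroups

variable {G : Type*} [Group G] [Finite G]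

/-- An embedded dihedral group of even degree has `2`-power degree. -/
theorem dih_two_power (hSC : SC G) {n : ℕ} (hn0 : n ≠ 0) (hn : 2 ∣ n) (φ : DihedralGroup n →* G)
    (hφ : Function.Injective φ) {r : ℕ} (hr : r.Prime) (hr2 : r ≠ 2) (hrn : r ∣ n) : False := by
  haveI : NeZero n := ⟨hn0⟩
  have h0 : orderOf (DihedralGroup.r 1 : DihedralGroup n) = n := DihedralGroup.orderOf_r_one
  set x : DihedralGroup n := DihedralGroup.r 1 with hx
  have hinvs : ∀ k : ℕ, DihedralGroup.sr 0 * x ^ k * (DihedralGroup.sr 0 : DihedralGroup n)⁻¹ = (x ^ k)⁻¹ := by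
    intro k
    rw [hx, DihedralGroup.r_one_pow, DihedralGroup.inv_sr, DihedralGroup.sr_mul_r, DihedralGroup.sr_mul_sr,
      DihedralGroup.inv_r]
    simp
  have ht := orderOf_pow_orderOf_div (x := x) (n := 2) (by rw [h0]; exact hn0) (by rw [h0]; exact hn)
  have hy := orderOf_pow_orderOf_div (x := x) (n := r) (by rw [h0]; exact hn0) (by rw [h0]; exact hrn)
  rw [h0] at ht hy
  set t : DihedralGroup n := x ^ (n / 2) with htdef
  set y : DihedralGroup n := x ^ (n / r) with hydef
  have hut : DihedralGroup.sr 0 * t = t * DihedralGroup.sr 0 := by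
    have h1 := hinvs (n / 2)
    rw [← htdef, inv_of_order ht] at h1
    calc DihedralGroup.sr 0 * t = DihedralGroup.sr 0 * t * (DihedralGroup.sr 0 : DihedralGroup n)⁻¹ * DihedralGroup.sr 0 := by group
      _ = _ := by rw [h1]
  have hyt : y * t = t * y := by
    rw [hydef, htdef, ← pow_add, ← pow_add, add_comm]
  have e1 : ∀ a : DihedralGroup n, orderOf (φ a) = orderOf a := fun a => orderOf_injective φ hφ a
  refine no_inv hSC (t := φ t) (u := φ (DihedralGroup.sr 0)) (y := φ y) (by rw [e1, ht])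
    (by rw [e1, DihedralGroup.orderOf_sr]) (by rw [← map_mul, ← map_mul, hut]) (by rw [← map_mul, ← map_mul, hyt])
    (by rw [e1, hy]; exact hr.odd_of_ne_two hr2) ?_ ?_
  · intro h
    have : orderOf (φ y) = 1 := by rw [h]; exact orderOf_one
    rw [e1, hy] at this
    exact hr.one_lt.ne' this
  · rw [← map_inv, ← map_mul, ← map_mul, ← map_inv, hydef, hinvs]

/-- The list of `q`. -/
theorem list_of_sc {F : Type*} [Field F] [Fintype F] (hchar : ringChar F ≠ 2)
    (hSC : SC (Matrix.ProjectiveSpecialLinearGroup (Fin 2) F)) :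
    Fintype.card F = 9 ∨ ((Fintype.card F).Prime ∧
      ∃ k : ℕ, Fintype.card F = 2 ^ k + 1 ∨ Fintype.card F = 2 ^ k - 1) := by
  classical
  obtain ⟨f, hp, hq⟩ := FiniteField.card F (ringChar F)
  set p := ringChar F with hpdef
  set q := Fintype.card F with hqdef
  have hodd : Odd q := by rw [hq]; exact (hp.odd_of_ne_two hchar).pow
  have hf : (f : ℕ) ≠ 0 := f.ne_zero
  -- the number theory
  have hnum : ∀ k : ℕ, (q = 2 ^ k + 1 ∨ q + 1 = 2 ^ k) → q = 9 ∨ (q.Prime ∧ ∃ k : ℕ, q = 2 ^ k + 1 ∨ q = 2 ^ k - 1) := by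
    intro k hk
    have h1 := Cfsg.Agent.Lib.SelfCen.ListNum.prime_or_nine (k := k) hp hchar hf (by rw [← hq]; exact hk)
    rcases h1 with h1 | h1
    · right
      rw [h1, pow_one] at hq
      refine ⟨by rw [hq]; exact hp, k, ?_⟩
      rcases hk with h | h
      · exact Or.inl h
      · right; omega
    · left
      rw [hq, h1]
  have hdih : ∀ (H : Subgroup (Matrix.ProjectiveSpecialLinearGroup (Fin 2) F)) {n : ℕ} (hn0 : n ≠ 0) (hn : 2 ∣ n),
      Nonempty (H ≃* DihedralGroup n) → ∃ a, n = 2 ^ a := by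
    intro H n hn0 hn ⟨e⟩
    refine ⟨_, Nat.eq_prime_pow_of_unique_prime_dvd hn0 ?_⟩
    intro d hd hdn
    by_contra hd2
    exact dih_two_power hSC hn0 hn (H.subtype.comp e.symm.toMonoidHom)
      (H.subtype_injective.comp e.symm.injective) hd hd2 hdn
  have hgcd : Nat.gcd 2 (q - 1) = 2 := by
    apply Nat.gcd_eq_left
    obtain ⟨c, hc⟩ := hodd
    exact ⟨c, by omega⟩
  obtain ⟨c, hc⟩ := hodd
  rcases Nat.even_or_odd c with ⟨d, hd⟩ | ⟨d, hd⟩
  · -- `q ≡ 1 (mod 4)`
    by_cases h5 : q = 5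
    · right
      rw [h5]
      exact ⟨by norm_num, 2, by norm_num⟩
    by_cases h9 : q = 9
    · exact Or.inl h9
    obtain ⟨H, -, hH⟩ := Cfsg.Agent.Lib.PSL2.DihedralMax.exists_coatom_sub (F := F) (q := q) rfl (by
      simp only [Finset.mem_insert, Finset.mem_singleton, not_or]
      omega)
    rw [hgcd] at hH
    have e : (q - 1) / 2 = 2 * d := by omega
    rw [e] at hH
    have hd0 : d ≠ 0 := by
      rintro rfl
      have h1 := Fintype.one_lt_card (α := F)
      omega
    obtain ⟨a, ha⟩ := hdih H (n := 2 * d) (by omega) (dvd_mul_right _ _) hH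
    refine hnum (a + 1) (Or.inl ?_)
    rw [pow_succ, ← ha]
    omega
  · -- `q ≡ 3 (mod 4)`
    by_cases h7 : q = 7
    · right
      rw [h7]
      exact ⟨by norm_num, 3, by norm_num⟩
    obtain ⟨H, -, hH⟩ := Cfsg.Agent.Lib.PSL2.DihedralMax.exists_coatom_add (F := F) (q := q) rfl (by
      simp only [Finset.mem_insert, Finset.mem_singleton, not_or]
      omega)
    rw [hgcd] at hH
    have e : (q + 1) / 2 = 2 * (d + 1) := by omega
    rw [e] at hH
    obtain ⟨a, ha⟩ := hdih H (n := 2 * (d + 1)) (by omega) (dvd_mul_right _ _) hH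
    refine hnum (a + 1) (Or.inr ?_)
    rw [pow_succ, ← ha]
    omega

end Cfsg.Agent.Lib.SelfCen.ListSC
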