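import Mathlib
import Cfsg.Agent.Lib.SelfCen.DihConj
import Cfsg.Agent.Lib.SelfCen.ListSC
import Cfsg.Agent.Lib.SelfCen.Converse

/-!
# Simple groups in which non-cyclic subgroups contain their centralizers
-/

set_option autoImplicit false
set_option linter.unusedVariables false
set_option linter.style.haveILetI false
set_option linter.unusedSectionVars false

namespace Cfsg.Agent.Lib.SelfCen.Main

open Subgroup Cfsg.Agent.Lib.SelfCen.Basic

/-- The property transports along isomorphisms. -/
theorem sc_of_equiv {G G' : Type*} [Group G] [Group G'] (e : G ≃* G') (h : SC G) : SC G' := by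
  intro H hH x hx
  have hH' : ¬ IsCyclic (H.comap e.toMonoidHom) := by
    intro hc
    apply hH
    have hinj : Function.Injective (fun y : H => (⟨e.symm y, by
      change e (e.symm y) ∈ H
      simp⟩ : H.comap e.toMonoidHom)) := by
      intro a b hab
      have := congrArg Subtype.val hab
      exact Subtype.ext (e.symm.injective this)
    let f : H →* H.comap e.toMonoidHom :=
      { toFun := fun y => ⟨e.symm y, by
          change e (e.symm y) ∈ H
          simp⟩
        map_one' := Subtype.ext (map_one e.symm)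
        map_mul' := fun a b => Subtype.ext (map_mul e.symm _ _) }
    exact isCyclic_of_injective f hinj
  have h1 : e.symm x ∈ centralizer ((H.comap e.toMonoidHom : Subgroup G) : Set G) := by
    rw [Subgroup.mem_centralizer_iff]
    intro y hy
    have hy' : e y ∈ H := hy
    have h2 := Subgroup.mem_centralizer_iff.1 hx _ hy'
    apply e.injective
    simpa using h2
  have h3 := h _ hH' h1
  have h4 : e (e.symm x) ∈ H := h3
  simpa using h4

/-- The main theorem, with the even order of `G` as a hypothesis. -/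
theorem main {G : Type*} [Group G] [Finite G] [IsSimpleGroup G] (hna : ¬ IsMulCommutative G)
    (h2 : ¬ Odd (Nat.card G) ) :
    (∀ H : Subgroup G, ¬ IsCyclic ↥H → Subgroup.centralizer (H : Set G) ≤ H) ↔
      ∃ (F : Type) (_ : Field F) (_ : Fintype F),
      (Fintype.card F = 4 ∨ Fintype.card F = 9 ∨ ((Fintype.card F).Prime ∧
        ∃ k : ℕ, Fintype.card F = 2 ^ k + 1 ∨ Fintype.card F = 2 ^ k - 1)) ∧
      Nonempty (G ≃* Matrix.ProjectiveSpecialLinearGroup (Fin 2) F) := by
  constructor
  · intro hSC
    have h2' : 2 ∣ Nat.card G := by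
      rw [← even_iff_two_dvd]
      exact Nat.not_odd_iff_even.1 h2
    obtain ⟨S⟩ : Nonempty (Sylow 2 G) := inferInstance
    obtain ⟨t, u, b, m, hD⟩ := Cfsg.Agent.Lib.SelfCen.DihConj.exists_DD hna hSC S h2'
    obtain ⟨F, i1, i2, hchar, ⟨e⟩⟩ := Cfsg.Agent.Lib.SelfCen.DihConj.psl_of_DD hna hSC hD h2'
    refine ⟨F, i1, i2, ?_, ⟨e⟩⟩
    rcases Cfsg.Agent.Lib.SelfCen.ListSC.list_of_sc hchar (sc_of_equiv e hSC) with h | h
    · exact Or.inr (Or.inl h)
    · exact Or.inr (Or.inr h)
  · rintro ⟨F, i1, i2, hq, ⟨e⟩⟩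
    exact sc_of_equiv e.symm (Cfsg.Agent.Lib.SelfCen.Converse.sc_psl hq)

end Cfsg.Agent.Lib.SelfCen.Main
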